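import Groth.Agent.Lib.Spread4.Ring
import Groth.Agent.Lib.Descend.BaseChangeAt

/-! Generic point of the spectrum and transport of fibres. -/

universe u

open CategoryTheory CategoryTheory.Limits AlgebraicGeometry

set_option linter.style.haveILetI false
set_option backward.isDefEq.respectTransparency false

namespace Groth.Agent.Spread4

/-- An affine chart of an irreducible scheme with the fraction field of its reduction. -/
theorem exists_chart (Y : Scheme.{u}) [IrreducibleSpace Y] :
    ∃ (A : CommRingCat.{u}) (j : Spec A ⟶ Y) (K : Type u) (_ : Field K) (φ : A →+* K),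
      IsOpenImmersion j ∧ RingHom.ker φ ≤ nilradical A ∧ ∀ x : K, ∃ a s : A, φ s ≠ 0 ∧ x = φ a / φ s := by
  obtain ⟨U, hU, hη, -⟩ := exists_isAffineOpen_mem_and_subset (X := Y) (x := genericPoint Y) (U := ⊤) trivial
  haveI : Nonempty U := ⟨⟨_, hη⟩⟩
  haveI : IrreducibleSpace U := by
    haveI : PreirreducibleSpace U := Subtype.preirreducibleSpace
      ((PreirreducibleSpace.isPreirreducible_univ (X := Y)).open_subset U.isOpen (Set.subset_univ _))
    exact ⟨inferInstance⟩
  haveI : IrreducibleSpace (PrimeSpectrum Γ(Y, U)) :=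
    hU.isoSpec.hom.homeomorph.irreducibleSpace_iff.1 inferInstance
  haveI hP : (nilradical Γ(Y, U)).IsPrime :=
    PrimeSpectrum.irreducibleSpace_iff_isPrime_nilradical.1 inferInstance
  refine ⟨Γ(Y, U), hU.fromSpec, FractionRing (Γ(Y, U) ⧸ nilradical Γ(Y, U)), inferInstance,
    (algebraMap _ _).comp (Ideal.Quotient.mk (nilradical Γ(Y, U))), inferInstance, fun a ha => ?_, fun x => ?_⟩
  · exact Ideal.Quotient.eq_zero_iff_mem.1
      ((map_eq_zero_iff _ (IsFractionRing.injective _ _)).1 (RingHom.mem_ker.1 ha))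
  · obtain ⟨a, s, hs, rfl⟩ := IsFractionRing.div_surjective (A := Γ(Y, U) ⧸ nilradical Γ(Y, U)) x
    obtain ⟨a, rfl⟩ := Ideal.Quotient.mk_surjective a
    obtain ⟨s, rfl⟩ := Ideal.Quotient.mk_surjective s
    exact ⟨a, s, (map_ne_zero_iff (algebraMap (Γ(Y, U) ⧸ nilradical Γ(Y, U)) _) (IsFractionRing.injective _ _)).2
      (nonZeroDivisors.ne_zero hs), rfl⟩

theorem nilradical_isPrime {B L : Type u} [CommRing B] [Field L] (χ : B →+* L)
    (hker : RingHom.ker χ ≤ nilradical B) : (nilradical B).IsPrime := by
  rw [← le_antisymm hker (@nilradical_le_prime _ _ _ (RingHom.ker_isPrime χ))]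
  exact RingHom.ker_isPrime χ

theorem irreducibleSpace_spec {B L : Type u} [CommRing B] [Field L] (χ : B →+* L)
    (hker : RingHom.ker χ ≤ nilradical B) : IrreducibleSpace (Spec (CommRingCat.of B)) :=
  PrimeSpectrum.irreducibleSpace_iff_isPrime_nilradical.2 (nilradical_isPrime χ hker)

/-- The field of fractions of the reduction is the residue field of the generic point. -/
theorem exists_iso_generic {B L : Type u} [CommRing B] [Field L] (χ : B →+* L)
    (hker : RingHom.ker χ ≤ nilradical B) (hfr : ∀ x : L, ∃ b d : B, χ d ≠ 0 ∧ x = χ b / χ d)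
    [IrreducibleSpace (Spec (CommRingCat.of B))] :
    ∃ σ : Spec (CommRingCat.of L) ⟶
        Spec ((Spec (CommRingCat.of B)).residueField (genericPoint (Spec (CommRingCat.of B)))), IsIso σ ∧
      σ ≫ (Spec (CommRingCat.of B)).fromSpecResidueField _ = Spec.map (CommRingCat.ofHom χ) := by
  let Y := Spec (CommRingCat.of B)
  let pt : Y := Spec.map (CommRingCat.ofHom χ) (IsLocalRing.closedPoint L)
  have hmem : pt.asIdeal ≤ nilradical B := fun b hb => hker (by
    have : χ b ∈ IsLocalRing.maximalIdeal L := hb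
    rwa [IsLocalRing.maximalIdeal_eq_bot, Ideal.mem_bot] at this)
  have hpt : pt = genericPoint Y := ((isGenericPoint_def.2 (Set.eq_univ_of_forall fun q => by
      refine specializes_iff_mem_closure.1 ?_
      exact (PrimeSpectrum.le_iff_specializes _ _).1
        (hmem.trans (@nilradical_le_prime _ _ _ q.isPrime)))).eq (genericPoint_spec Y))
  obtain ⟨z, ψ, hψ⟩ : ∃ (z : Y) (ψ : Y.residueField z ⟶ CommRingCat.of L), z = pt ∧
      Spec.map ψ ≫ Y.fromSpecResidueField z = Spec.map (CommRingCat.ofHom χ) :=
    ⟨_, Scheme.descResidueField (Scheme.stalkClosedPointTo (Spec.map (CommRingCat.ofHom χ))), rfl,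
      Scheme.descResidueField_stalkClosedPointTo_fromSpecResidueField _ _ _⟩
  obtain ⟨rfl, hψ⟩ := hψ
  obtain ⟨θ, hθ⟩ := Spec.map_surjective (Y.fromSpecResidueField pt)
  rw [← hθ, ← Spec.map_comp] at hψ
  have hc : θ ≫ ψ = CommRingCat.ofHom χ := Spec.map_injective hψ
  have hχ : ∀ b, ψ (θ b) = χ b := fun b => congr($(hc) b)
  haveI : IsIso ψ := by
    rw [ConcreteCategory.isIso_iff_bijective]
    refine ⟨ψ.hom.injective, fun x => ?_⟩
    obtain ⟨b, d, hd, rfl⟩ := hfr x
    exact ⟨θ b / θ d, by rw [map_div₀, hχ, hχ]⟩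
  suffices h : ∃ σ : Spec (CommRingCat.of L) ⟶ Spec (Y.residueField pt), IsIso σ ∧
      σ ≫ Y.fromSpecResidueField pt = Spec.map (CommRingCat.ofHom χ) by
    rwa [hpt] at h
  exact ⟨Spec.map ψ, inferInstance, by rw [← hθ, ← Spec.map_comp, hc]⟩

/-- Base change of fibres along `q` is the base change of the point. -/
theorem exists_fibre_comparison {X Y Y' S₀ S₁ : Scheme.{u}} (f : X ⟶ Y) (G : Y' ⟶ Y) (η : Y')
    (p : S₀ ⟶ Y) (π : S₁ ⟶ S₀) (σ : S₁ ⟶ Spec (Y'.residueField η))
    (h : σ ≫ Y'.fromSpecResidueField η ≫ G = π ≫ p) :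
    ∃ a : pullback (pullback.snd f p) π ⟶ (pullback.snd f G).fiber η,
      IsPullback a (pullback.snd (pullback.snd f p) π) ((pullback.snd f G).fiberToSpecResidueField η) σ := by
  have h1 : IsPullback (pullback.fst (pullback.snd f G) (Y'.fromSpecResidueField η) ≫ pullback.fst f G)
      ((pullback.snd f G).fiberToSpecResidueField η) f (Y'.fromSpecResidueField η ≫ G) :=
    (IsPullback.of_hasPullback (pullback.snd f G) (Y'.fromSpecResidueField η)).paste_horiz
      (IsPullback.of_hasPullback f G)
  have h2 : IsPullback (pullback.fst (pullback.snd f p) π ≫ pullback.fst f p)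
      (pullback.snd (pullback.snd f p) π) f (π ≫ p) :=
    (IsPullback.of_hasPullback (pullback.snd f p) π).paste_horiz (IsPullback.of_hasPullback f p)
  rw [← h] at h2
  refine ⟨h1.lift (pullback.fst (pullback.snd f p) π ≫ pullback.fst f p)
    (pullback.snd (pullback.snd f p) π ≫ σ) (h2.w.trans (Category.assoc _ _ _).symm), ?_⟩
  refine IsPullback.of_right ?_ (h1.lift_snd _ _ _) h1
  rw [h1.lift_fst]
  exact h2

end Groth.Agent.Spread4

namespace Groth.Agent.Spread4

theorem exists_iso_generic_open {S Y U : Scheme.{u}} (ι : U ⟶ Y) [IsOpenImmersion ι] [IrreducibleSpace Y]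
    [IrreducibleSpace U] (σ : S ⟶ Spec (Y.residueField (genericPoint Y))) [IsIso σ] :
    ∃ σ' : S ⟶ Spec (U.residueField (genericPoint U)), IsIso σ' ∧
      σ' ≫ U.fromSpecResidueField (genericPoint U) ≫ ι = σ ≫ Y.fromSpecResidueField (genericPoint Y) := by
  revert σ
  rw [← genericPoint_eq_of_isOpenImmersion ι]
  intro σ _
  refine ⟨σ ≫ inv (Spec.map (ι.residueFieldMap (genericPoint U))), inferInstance, ?_⟩
  rw [Category.assoc, ← Scheme.Hom.SpecMap_residueFieldMap_fromSpecResidueField, IsIso.inv_hom_id_assoc]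

/-- The generic fibre of a reduced scheme over an integral one is reduced. -/
theorem isReduced_genericFibre {X U : Scheme.{u}} (f : X ⟶ U) [IsIntegral U] [IsReduced X] :
    IsReduced (f.fiber (genericPoint U)) := by
  haveI : IsIso (U.residue (genericPoint U)) := by
    rw [ConcreteCategory.isIso_iff_bijective]
    exact ⟨(show U.functionField →+* U.residueField (genericPoint U) from
      (U.residue (genericPoint U)).hom).injective, U.residue_surjective _⟩
  haveI : Flat (U.fromSpecStalk (genericPoint U)) := Descend.flat_fromSpecStalk _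
  haveI : Flat (U.fromSpecResidueField (genericPoint U)) := by
    unfold Scheme.fromSpecResidueField; infer_instance
  haveI : Flat (f.fiberι (genericPoint U)) := MorphismProperty.pullback_fst _ _ inferInstance
  haveI : IsPreimmersion (f.fiberι (genericPoint U)) := MorphismProperty.pullback_fst _ _ inferInstance
  haveI : ∀ x, _root_.IsReduced ((f.fiber (genericPoint U)).presheaf.stalk x) := fun x => by
    let φ := (f.fiberι (genericPoint U)).stalkMap x
    algebraize [φ.hom]
    haveI : IsLocalHom (algebraMap (X.presheaf.stalk (f.fiberι (genericPoint U) x))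
        ((f.fiber (genericPoint U)).presheaf.stalk x)) := inferInstanceAs (IsLocalHom φ.hom)
    haveI : Module.Flat (X.presheaf.stalk (f.fiberι (genericPoint U) x))
        ((f.fiber (genericPoint U)).presheaf.stalk x) := Flat.stalkMap _ x
    haveI : Module.FaithfullyFlat (X.presheaf.stalk (f.fiberι (genericPoint U) x))
        ((f.fiber (genericPoint U)).presheaf.stalk x) := Module.FaithfullyFlat.of_flat_of_isLocalHom
    have hinj : Function.Injective φ.hom :=
      FaithfulSMul.algebraMap_injective (X.presheaf.stalk (f.fiberι (genericPoint U) x))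
        ((f.fiber (genericPoint U)).presheaf.stalk x)
    let e := RingEquiv.ofBijective φ.hom ⟨hinj, (f.fiberι (genericPoint U)).stalkMap_surjective x⟩
    exact isReduced_of_injective e.symm e.symm.injective
  exact isReduced_of_isReduced_stalk _

end Groth.Agent.Spread4
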