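import Groth.Agent.Lib.Modif26.Main
import Groth.Agent.Lib.RedSep.Basic
import Groth.Agent.S0414
import Groth.Agent.S0419
import Groth.Agent.S1301
import Groth.Agent.S1549
import Groth.Agent.S1629
import Groth.Agent.S1654
import Groth.Agent.S4623
import Groth.Agent.Lib.Spread4.Gen

/-! Components with geometrically integral fibres. -/

universe u

open CategoryTheory CategoryTheory.Limits AlgebraicGeometry TopologicalSpace

set_option linter.style.haveILetI false
set_option backward.isDefEq.respectTransparency false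

namespace Groth.Agent.Spread4

/-- Reduced closed subschemes with the same range are isomorphic. -/
theorem exists_iso_of_range_eq {Z Z' X : Scheme.{u}} (i : Z ⟶ X) (i' : Z' ⟶ X) [IsClosedImmersion i]
    [IsClosedImmersion i'] [IsReduced Z] [IsReduced Z'] (h : Set.range i = Set.range i') :
    ∃ e : Z ⟶ Z', IsIso e ∧ e ≫ i' = i := by
  have h1 : i'.ker ≤ i.ker := by
    refine le_trans (Scheme.IdealSheafData.le_support_iff_le_vanishingIdeal.1 le_rfl)
      (Modif26.vanishingIdeal_le_ker i _ ?_)
    rw [Scheme.Hom.support_ker]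
    exact h.le.trans subset_closure
  let e := IsClosedImmersion.lift i' i h1
  have he : e ≫ i' = i := IsClosedImmersion.lift_fac _ _ _
  haveI : IsClosedImmersion (e ≫ i') := by rw [he]; infer_instance
  haveI : IsClosedImmersion e := IsClosedImmersion.of_comp e i'
  haveI : Surjective e := ⟨fun z => by
    obtain ⟨w, hw⟩ : i' z ∈ Set.range i := h ▸ ⟨z, rfl⟩
    exact ⟨w, i'.isClosedEmbedding.injective (by rw [← Scheme.Hom.comp_apply, he, hw])⟩⟩
  exact ⟨e, isIso_of_isClosedImmersion_of_surjective e, he⟩

theorem isReduced_vanishing {X : Scheme.{u}} (C : Closeds X) :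
    IsReduced (Scheme.IdealSheafData.vanishingIdeal C).subscheme :=
  RedSepLib.isReduced_vanishingIdeal_subscheme _

theorem range_vanishing {X : Scheme.{u}} (C : Closeds X) :
    Set.range (Scheme.IdealSheafData.vanishingIdeal C).subschemeι = (C : Set X) := by
  rw [Scheme.IdealSheafData.range_subschemeι, Scheme.IdealSheafData.coe_support_vanishingIdeal]

/-- A component of a geometrically reduced scheme is geometrically reduced. -/
theorem geometricallyReduced_component {k : Type u} [Field k] {X Z : Scheme.{u}}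
    (π : X ⟶ Spec (CommRingCat.of k)) [GeometricallyReduced π] [IsReduced X] [LocallyOfFiniteType π]
    (hfin : (irreducibleComponents (X : Type u)).Finite) (i : Z ⟶ X) [IsClosedImmersion i] [IsReduced Z]
    (hi : Set.range i ∈ irreducibleComponents (X : Type u)) : GeometricallyReduced (i ≫ π) := by
  letI : X.Over (Spec (CommRingCat.of k)) := ⟨π⟩
  haveI : LocallyOfFiniteType (X ↘ Spec (CommRingCat.of k)) := inferInstanceAs (LocallyOfFiniteType π)
  obtain ⟨U, hU, hUsm⟩ := (S1549.result k X).1 (inferInstanceAs (GeometricallyReduced π))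
  let others : Set X := ⋃ D ∈ irreducibleComponents (X : Type u) \ {Set.range i}, D
  have hothers : IsClosed others :=
    (hfin.subset Set.diff_subset).isClosed_biUnion fun D hD => isClosed_of_mem_irreducibleComponents D hD.1
  have hne : (othersᶜ : Set X).Nonempty := by
    by_contra hcon
    rw [Set.not_nonempty_iff_eq_empty, Set.compl_empty_iff] at hcon
    have hsub : Set.range i ⊆ others := by rw [hcon]; exact Set.subset_univ _
    obtain ⟨D, hD, hDsub⟩ := isIrreducible_iff_sUnion_isClosed.1 hi.1 (hfin.subset Set.diff_subset).toFinset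
      (fun D hD => isClosed_of_mem_irreducibleComponents D ((Set.Finite.mem_toFinset _).1 hD).1) (by
        rw [Set.Finite.coe_toFinset, Set.sUnion_eq_biUnion]; exact hsub)
    obtain ⟨hD1, hD2⟩ := (Set.Finite.mem_toFinset _).1 hD
    exact hD2 (hDsub.antisymm (hi.2 hD1.1 hDsub)).symm
  obtain ⟨a, haO⟩ := hU.inter_open_nonempty othersᶜ hothers.isOpen_compl hne
  let O : X.Opens := ⟨othersᶜ, hothers.isOpen_compl⟩ ⊓ U
  have hOi : (O : Set X) ⊆ Set.range i := fun z hz => by
    by_contra hzi
    refine hz.1 (Set.mem_biUnion (show irreducibleComponent z ∈ irreducibleComponents (X : Type u) \ {Set.range i} from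
      ⟨irreducibleComponent_mem_irreducibleComponents z, fun e => hzi (e ▸ mem_irreducibleComponent)⟩)
      mem_irreducibleComponent)
  haveI : IsReduced (O : Scheme.{u}) := isReduced_of_isOpenImmersion O.ι
  haveI : Surjective (i ∣_ O) := ⟨fun z => by
    obtain ⟨w, hw⟩ := hOi z.2
    exact ⟨⟨w, show i w ∈ O by rw [hw]; exact z.2⟩, Subtype.ext (by rw [morphismRestrict_base_coe]; exact hw)⟩⟩
  haveI : IsClosedImmersion (i ∣_ O) := IsZariskiLocalAtTarget.restrict (P := @IsClosedImmersion) inferInstance O
  haveI := isIso_of_isClosedImmersion_of_surjective (i ∣_ O)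
  letI : Z.Over (Spec (CommRingCat.of k)) := ⟨i ≫ π⟩
  haveI : LocallyOfFiniteType (Z ↘ Spec (CommRingCat.of k)) := inferInstanceAs (LocallyOfFiniteType (i ≫ π))
  haveI : IrreducibleSpace Z := by
    have h1 := hi.1
    haveI : IrreducibleSpace (Set.range i) := by
      haveI : PreirreducibleSpace (Set.range i) := Subtype.preirreducibleSpace h1.2
      haveI : Nonempty (Set.range i) := h1.1.to_subtype
      exact ⟨inferInstance⟩
    exact i.isClosedEmbedding.toIsEmbedding.toHomeomorph.irreducibleSpace_iff.2 inferInstance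
  refine (S1549.result k Z).2 ⟨i ⁻¹ᵁ O, (i ⁻¹ᵁ O).isOpen.dense ?_, ?_⟩
  · obtain ⟨w, hw⟩ := hOi (show a ∈ (O : Set X) from haO)
    exact ⟨w, show i w ∈ (O : Set X) by rw [hw]; exact haO⟩
  · have hO : Smooth (O.ι ≫ π) := by
      haveI := hUsm
      have h1 : O.ι ≫ π = X.homOfLE inf_le_right ≫ (U.ι ≫ (X ↘ Spec (CommRingCat.of k))) := by
        rw [Scheme.homOfLE_ι_assoc]; rfl
      rw [h1]; infer_instance
    haveI := hO
    show Smooth ((i ⁻¹ᵁ O).ι ≫ i ≫ π)
    rw [← morphismRestrict_ι_assoc]
    infer_instance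

/-- A finite extension over which all components are geometrically integral. -/
theorem exists_field_components (K : Type u) [Field K] {X : Scheme.{u}} (π : X ⟶ Spec (CommRingCat.of K))
    [LocallyOfFiniteType π] [QuasiCompact π] :
    ∃ (L : Type u) (_ : Field L) (_ : Algebra K L), FiniteDimensional K L ∧
      ∀ (Z : Scheme.{u}) (i : Z ⟶ pullback π (Spec.map (CommRingCat.ofHom (algebraMap K L))))
        [IsClosedImmersion i] [IsReduced Z], Set.range i ∈ irreducibleComponents _ →
        GeometricallyIntegral (i ≫ pullback.snd π (Spec.map (CommRingCat.ofHom (algebraMap K L)))) := by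
  classical
  have fincomp : ∀ {W : Scheme.{u}} {k : Type u} [Field k] (p : W ⟶ Spec (CommRingCat.of k)) [LocallyOfFiniteType p]
      [QuasiCompact p], (irreducibleComponents (W : Type u)).Finite := fun {W} {k} _ p _ _ => by
    haveI : IsLocallyNoetherian W := LocallyOfFiniteType.isLocallyNoetherian p
    haveI : CompactSpace W := QuasiCompact.compactSpace_of_compactSpace p
    haveI : IsNoetherian W := {}
    exact NoetherianSpace.finite_irreducibleComponents
  letI : X.Over (Spec (CommRingCat.of K)) := ⟨π⟩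
  haveI : LocallyOfFiniteType (X ↘ Spec (CommRingCat.of K)) := inferInstanceAs (LocallyOfFiniteType π)
  obtain ⟨L₁, _, _, hfin₁, -, hGR₁⟩ := S1629.result K X (fincomp π)
  let π₁ : pullback π (Spec.map (CommRingCat.ofHom (algebraMap K L₁))) ⟶ Spec (CommRingCat.of L₁) := pullback.snd _ _
  let N₁ := (pullback π (Spec.map (CommRingCat.ofHom (algebraMap K L₁)))).nilradical
  let ρ : N₁.subscheme ⟶ Spec (CommRingCat.of L₁) := N₁.subschemeι ≫ π₁
  haveI : GeometricallyReduced ρ := hGR₁
  letI : N₁.subscheme.Over (Spec (CommRingCat.of L₁)) := ⟨ρ⟩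
  haveI : LocallyOfFiniteType (N₁.subscheme ↘ Spec (CommRingCat.of L₁)) := inferInstanceAs (LocallyOfFiniteType ρ)
  obtain ⟨L, _, _, hfin₂, -, hirr⟩ := S1654.result L₁ N₁.subscheme (fincomp ρ)
  letI : Algebra K L := ((algebraMap L₁ L).comp (algebraMap K L₁)).toAlgebra
  haveI : IsScalarTower K L₁ L := IsScalarTower.of_algebraMap_eq' rfl
  haveI := hfin₁
  haveI := hfin₂
  refine ⟨L, inferInstance, inferInstance, FiniteDimensional.trans K L₁ L, fun Z i _ _ hi => ?_⟩
  let t₂ : Spec (CommRingCat.of L) ⟶ Spec (CommRingCat.of L₁) := Spec.map (CommRingCat.ofHom (algebraMap L₁ L))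
  let N := pullback ρ t₂
  let σ : N ⟶ Spec (CommRingCat.of L) := pullback.snd ρ t₂
  let j : N ⟶ pullback π (Spec.map (CommRingCat.ofHom (algebraMap K L))) :=
    pullback.lift (pullback.fst ρ t₂ ≫ N₁.subschemeι ≫ pullback.fst _ _) σ (by
      simp only [Category.assoc, pullback.condition]
      rw [show N₁.subschemeι ≫ pullback.snd π (Spec.map (CommRingCat.ofHom (algebraMap K L₁))) ≫
          Spec.map (CommRingCat.ofHom (algebraMap K L₁)) = ρ ≫ Spec.map (CommRingCat.ofHom (algebraMap K L₁)) from
        (Category.assoc _ _ _).symm, pullback.condition_assoc]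
      simp only [t₂, ← Spec.map_comp, ← CommRingCat.ofHom_comp]
      rfl)
  let j₁ : pullback π (Spec.map (CommRingCat.ofHom (algebraMap K L))) ⟶
      pullback π (Spec.map (CommRingCat.ofHom (algebraMap K L₁))) :=
    pullback.lift (pullback.fst _ _) (pullback.snd _ _ ≫ t₂) (by
      rw [pullback.condition, Category.assoc]
      simp only [t₂, ← Spec.map_comp, ← CommRingCat.ofHom_comp]
      rfl)
  have hj₁ : IsPullback j₁ (pullback.snd π (Spec.map (CommRingCat.ofHom (algebraMap K L)))) π₁ t₂ := by
    refine IsPullback.of_right ?_ (pullback.lift_snd _ _ _) (IsPullback.of_hasPullback π _)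
    rw [pullback.lift_fst]
    have h2 : t₂ ≫ Spec.map (CommRingCat.ofHom (algebraMap K L₁)) = Spec.map (CommRingCat.ofHom (algebraMap K L)) := by
      simp only [t₂, ← Spec.map_comp, ← CommRingCat.ofHom_comp]
      rfl
    rw [h2]
    exact IsPullback.of_hasPullback π _
  have hj : IsPullback (pullback.fst ρ t₂) j N₁.subschemeι j₁ := by
    refine IsPullback.of_bot ?_ ?_ hj₁
    · rw [show j ≫ pullback.snd π _ = σ from pullback.lift_snd _ _ _]
      exact IsPullback.of_hasPullback ρ t₂
    · refine pullback.hom_ext ?_ ?_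
      · simp only [Category.assoc]
        rw [show j₁ ≫ pullback.fst π _ = _ from pullback.lift_fst _ _ _,
          show j ≫ pullback.fst π _ = _ from pullback.lift_fst _ _ _]
      · simp only [Category.assoc]
        rw [show j₁ ≫ pullback.snd π _ = _ from pullback.lift_snd _ _ _,
          show j ≫ pullback.snd π _ ≫ t₂ = σ ≫ t₂ from by
            rw [← Category.assoc, show j ≫ pullback.snd π _ = σ from pullback.lift_snd _ _ _],
          show σ ≫ t₂ = pullback.fst ρ t₂ ≫ ρ from pullback.condition.symm]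
  haveI : Surjective N₁.subschemeι := ⟨by
    rw [← Set.range_eq_univ, Scheme.IdealSheafData.range_subschemeι, Scheme.support_nilradical]
    rfl⟩
  haveI : IsClosedImmersion j := MorphismProperty.of_isPullback hj inferInstance
  haveI : Surjective j := MorphismProperty.of_isPullback hj inferInstance
  haveI : GeometricallyReduced σ := MorphismProperty.pullback_snd _ _ inferInstance
  haveI : IsReduced N := GeometricallyReduced.geometrically_isReduced (f := ρ) t₂ _ _ (IsPullback.of_hasPullback ρ t₂)
  have hker : j.ker ≤ i.ker := by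
    refine le_trans (Scheme.IdealSheafData.le_support_iff_le_vanishingIdeal.1 le_rfl)
      (Modif26.vanishingIdeal_le_ker i _ ?_)
    rw [Scheme.Hom.support_ker, j.surjective.range_eq, closure_univ]
    exact Set.subset_univ _
  let i' : Z ⟶ N := IsClosedImmersion.lift j i hker
  have hi' : i' ≫ j = i := IsClosedImmersion.lift_fac _ _ _
  haveI : IsClosedImmersion (i' ≫ j) := by rw [hi']; infer_instance
  haveI : IsClosedImmersion i' := IsClosedImmersion.of_comp i' j
  have hr : Set.range i' = j ⁻¹' Set.range i := by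
    ext z
    constructor
    · rintro ⟨w, rfl⟩
      exact ⟨w, by rw [← hi']; rfl⟩
    · rintro ⟨w, hw⟩
      exact ⟨w, j.isClosedEmbedding.injective (by rw [← Scheme.Hom.comp_apply, hi', hw])⟩
  have hi'c : Set.range i' ∈ irreducibleComponents ↥N := by
    rw [hr]
    refine preimage_mem_irreducibleComponents hi ⟨j.isClosedEmbedding.toIsEmbedding, ?_⟩ ?_
    · rw [j.surjective.range_eq]; exact isOpen_univ
    · rw [j.surjective.range_eq, Set.inter_univ]; exact hi.1.1
  have hσ : i ≫ pullback.snd π (Spec.map (CommRingCat.ofHom (algebraMap K L))) = i' ≫ σ := by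
    rw [← hi', Category.assoc, show j ≫ pullback.snd π _ = σ from pullback.lift_snd _ _ _]
  rw [hσ]
  have hirr' := hirr _ hi'c
  haveI := isReduced_vanishing (X := N) ⟨_, isClosed_of_mem_irreducibleComponents _ hi'c⟩
  obtain ⟨e, he, hei⟩ := exists_iso_of_range_eq i'
    (Scheme.IdealSheafData.vanishingIdeal (X := N) ⟨_, isClosed_of_mem_irreducibleComponents _ hi'c⟩).subschemeι
    (range_vanishing (X := N) ⟨_, isClosed_of_mem_irreducibleComponents _ hi'c⟩).symm
  haveI := he
  haveI h1 : GeometricallyIrreducible (i' ≫ σ) := by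
    rw [← hei, Category.assoc]
    exact (MorphismProperty.cancel_left_of_respectsIso (P := @GeometricallyIrreducible) e _).2 hirr'
  haveI : LocallyOfFiniteType σ := MorphismProperty.pullback_snd _ _ inferInstance
  haveI : QuasiCompact σ := MorphismProperty.pullback_snd _ _ inferInstance
  have h2 : GeometricallyReduced (i' ≫ σ) := geometricallyReduced_component σ (fincomp σ) i' hi'c
  rw [GeometricallyIntegral.eq_geometricallyReduced_inf_geometricallyIrreducible]
  exact ⟨h2, h1⟩

theorem isPullback_restrict_le {X Y : Scheme.{u}} (f : X ⟶ Y) {V W : Y.Opens} (e : V ≤ W) :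
    IsPullback (X.homOfLE (f.preimage_mono e)) (f ∣_ V) (f ∣_ W) (Y.homOfLE e) := by
  refine IsPullback.of_right ?_ ?_ (isPullback_morphismRestrict f W).flip
  · rw [Scheme.homOfLE_ι, Scheme.homOfLE_ι]
    exact (isPullback_morphismRestrict f V).flip
  · rw [← cancel_mono W.ι, Category.assoc, morphismRestrict_ι, Scheme.homOfLE_ι_assoc, Category.assoc,
      Scheme.homOfLE_ι, morphismRestrict_ι]

theorem exists_open_of_constructible {T : Type*} [TopologicalSpace T] {s : Set T}
    (hs : Topology.IsLocallyConstructible s) {η : T} (hη : ∀ U : Set T, IsOpen U → U.Nonempty → η ∈ U) (hmem : η ∈ s) :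
    ∃ U : Set T, IsOpen U ∧ η ∈ U ∧ U ⊆ s := by
  obtain ⟨V, hV, hVo, hc⟩ := hs η
  have hηV : η ∈ V := mem_of_mem_nhds hV
  suffices h : ∃ U : Set V, IsOpen U ∧ (⟨η, hηV⟩ : V) ∈ U ∧ (U ⊆ Subtype.val ⁻¹' s ∨ U ⊆ (Subtype.val ⁻¹' s)ᶜ) by
    obtain ⟨U, hU, hηU, h⟩ := h
    rcases h with h | h
    · exact ⟨Subtype.val '' U, hVo.isOpenMap_subtype_val U hU, ⟨_, hηU, rfl⟩, Set.image_subset_iff.2 h⟩
    · exact absurd hmem (h hηU)
  clear hmem
  generalize Subtype.val ⁻¹' s = S' at hc
  induction hc using Topology.IsConstructible.empty_union_induction with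
  | open_retrocompact U hU hUc =>
    rcases U.eq_empty_or_nonempty with h | h
    · exact ⟨Set.univ, isOpen_univ, trivial, Or.inr (by simp [h])⟩
    · refine ⟨U, hU, ?_, Or.inl subset_rfl⟩
      obtain ⟨v, hv, e⟩ := hη (Subtype.val '' U) (hVo.isOpenMap_subtype_val U hU) (h.image _)
      exact (Subtype.ext e : v = ⟨η, hηV⟩) ▸ hv
  | union a ha b hb iha ihb =>
    obtain ⟨U₁, h₁, hm₁, c₁⟩ := iha
    obtain ⟨U₂, h₂, hm₂, c₂⟩ := ihb
    refine ⟨U₁ ∩ U₂, h₁.inter h₂, ⟨hm₁, hm₂⟩, ?_⟩
    rcases c₁ with c₁ | c₁
    · exact Or.inl fun z hz => Or.inl (c₁ hz.1)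
    rcases c₂ with c₂ | c₂
    · exact Or.inl fun z hz => Or.inr (c₂ hz.2)
    · exact Or.inr fun z hz h => h.elim (c₁ hz.1) (c₂ hz.2)
  | compl a ha iha =>
    obtain ⟨U₁, h₁, hm₁, c₁⟩ := iha
    exact ⟨U₁, h₁, hm₁, c₁.symm.imp id fun c z hz hn => hn (c hz)⟩

/-- Over a non-empty open all components are flat with geometrically integral fibres. -/
theorem exists_good_open {P T : Scheme.{u}} (F : P ⟶ T) [IsIntegral T] [IsNoetherian T] [LocallyOfFiniteType F]
    [QuasiCompact F]
    (hgen : ∀ (Z : Scheme.{u}) (i : Z ⟶ F.fiber (genericPoint T)) [IsClosedImmersion i] [IsReduced Z],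
      Set.range i ∈ irreducibleComponents _ → GeometricallyIntegral (i ≫ F.fiberToSpecResidueField (genericPoint T))) :
    ∃ W : T.Opens, (W : Set T).Nonempty ∧ ∀ (C : Set P) (hC : C ∈ irreducibleComponents (P : Type u)),
      (C ∩ F ⁻¹' (W : Set T)).Nonempty →
      let q := (Scheme.IdealSheafData.vanishingIdeal (X := P) ⟨C, isClosed_of_mem_irreducibleComponents C hC⟩).subschemeι ≫ F
      Flat (q ∣_ W) ∧ GeometricallyIntegral (q ∣_ W) := by
  classical
  haveI : IsLocallyNoetherian P := LocallyOfFiniteType.isLocallyNoetherian F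
  haveI : CompactSpace P := QuasiCompact.compactSpace_of_compactSpace F
  haveI : IsNoetherian P := {}
  let η := genericPoint T
  have hopen : ∀ (U : Set T), IsOpen U → U.Nonempty → η ∈ U := fun U hU hne =>
    ((genericPoint_spec T).mem_open_set_iff hU).2 (by simpa using hne)
  have key : ∀ C : irreducibleComponents (P : Type u), ∃ W : T.Opens, η ∈ W ∧
      ((C.1 ∩ F ⁻¹' (W : Set T)).Nonempty →
        let q := (Scheme.IdealSheafData.vanishingIdeal (X := P)
          ⟨C.1, isClosed_of_mem_irreducibleComponents C.1 C.2⟩).subschemeι ≫ F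
        Flat (q ∣_ W) ∧ GeometricallyIntegral (q ∣_ W)) := by
    rintro ⟨C, hC⟩
    obtain ⟨ζ, hζ⟩ := QuasiSober.sober hC.1 (isClosed_of_mem_irreducibleComponents C hC)
    by_cases hζη : F ζ = η
    swap
    · refine ⟨⟨(closure {F ζ})ᶜ, isClosed_closure.isOpen_compl⟩, fun h => hζη
        ((show F ζ ⤳ η from specializes_iff_mem_closure.2 h).antisymm (genericPoint_specializes _)).eq, ?_⟩
      rintro ⟨x, hxC, hxW⟩
      exact absurd (specializes_iff_mem_closure.1 ((hζ.specializes hxC).map F.continuous)) hxW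
    let I := Scheme.IdealSheafData.vanishingIdeal (X := P) ⟨C, isClosed_of_mem_irreducibleComponents C hC⟩
    haveI : IsReduced I.subscheme := isReduced_vanishing _
    let q : I.subscheme ⟶ T := I.subschemeι ≫ F
    let ρ : q.fiber η ⟶ F.fiber η := pullback.lift (q.fiberι η ≫ I.subschemeι) (q.fiberToSpecResidueField η) (by
      rw [Category.assoc]; exact pullback.condition)
    have hρ : IsPullback (q.fiberι η) ρ I.subschemeι (F.fiberι η) := by
      refine IsPullback.of_bot ?_ (pullback.lift_fst _ _ _).symm (IsPullback.of_hasPullback F _)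
      rw [show ρ ≫ pullback.snd F _ = _ from pullback.lift_snd _ _ _]
      exact IsPullback.of_hasPullback q _
    haveI : IsClosedImmersion ρ := MorphismProperty.of_isPullback hρ inferInstance
    haveI : IsReduced (q.fiber η) := isReduced_genericFibre q
    have hρr : Set.range ρ = F.fiberι η ⁻¹' C := by
      ext z
      constructor
      · rintro ⟨w, rfl⟩
        show F.fiberι η (ρ w) ∈ C
        rw [← Scheme.Hom.comp_apply, ← hρ.w, Scheme.Hom.comp_apply]
        exact (range_vanishing (X := P) ⟨C, isClosed_of_mem_irreducibleComponents C hC⟩).le ⟨_, rfl⟩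
      · intro hz
        obtain ⟨w₀, hw₀⟩ : F.fiberι η z ∈ Set.range I.subschemeι := by
          rw [range_vanishing]; exact hz
        obtain ⟨w, -, hw⟩ := Scheme.exists_preimage_of_isPullback hρ w₀ z hw₀
        exact ⟨w, hw⟩
    have hcomp : F.fiberι η ⁻¹' C ∈ irreducibleComponents ↥(F.fiber η) := by
      obtain ⟨z₀, hz₀⟩ : ζ ∈ Set.range (F.fiberι η) := by rw [Scheme.Hom.range_fiberι]; exact hζη
      have hsp : ∀ z ∈ F.fiberι η ⁻¹' C, z₀ ⤳ z := fun z hz =>
        (F.fiberι η).isEmbedding.isInducing.specializes_iff.1 (by rw [hz₀]; exact hζ.specializes hz)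
      have hcl : F.fiberι η ⁻¹' C = closure {z₀} := by
        refine Set.Subset.antisymm (fun z hz => specializes_iff_mem_closure.1 (hsp z hz)) ?_
        refine closure_minimal ?_ ((isClosed_of_mem_irreducibleComponents C hC).preimage (F.fiberι η).continuous)
        rw [Set.singleton_subset_iff]
        show F.fiberι η z₀ ∈ C
        rw [hz₀]; exact hζ.mem
      refine ⟨hcl ▸ isIrreducible_singleton.closure, fun D hD hsub z hz => ?_⟩
      have h1 : IsIrreducible (closure (F.fiberι η '' D)) := (hD.image _ (F.fiberι η).continuous.continuousOn).closure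
      have h2 : C ⊆ closure (F.fiberι η '' D) := by
        rw [← hζ.def]
        refine closure_mono ?_
        rw [Set.singleton_subset_iff]
        exact ⟨z₀, hsub (show F.fiberι η z₀ ∈ C by rw [hz₀]; exact hζ.mem), hz₀⟩
      exact hC.2 h1 h2 (subset_closure ⟨z, hz, rfl⟩)
    have hGI : GeometricallyIntegral (q.fiberToSpecResidueField η) := by
      have h := hgen _ ρ (hρr ▸ hcomp)
      rwa [show ρ ≫ F.fiberToSpecResidueField η = _ from pullback.lift_snd _ _ _] at h
    rw [GeometricallyIntegral.eq_geometricallyReduced_inf_geometricallyIrreducible] at hGI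
    obtain ⟨W₁, hW₁, hflat, -⟩ := S0414.result q
    obtain ⟨W₂, hW₂, hirr⟩ := S0419.result q hGI.2
    haveI : LocallyOfFinitePresentation q := VarDim.locallyOfFinitePresentation_of_locallyNoetherian q
    obtain ⟨U₃, hU₃, hη₃, hsub₃⟩ := exists_open_of_constructible (S1301.result q) hopen hGI.1
    let W : T.Opens := W₁ ⊓ W₂ ⊓ ⟨U₃, hU₃⟩
    refine ⟨W, ⟨⟨hopen _ W₁.isOpen hW₁.nonempty, hopen _ W₂.isOpen hW₂⟩, hη₃⟩, fun _ => ⟨?_, ?_⟩⟩
    · exact MorphismProperty.of_isPullback (P := @Flat)
        (isPullback_restrict_le q (show W ≤ W₁ from inf_le_left.trans inf_le_left)) hflat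
    · rw [GeometricallyIntegral.eq_geometricallyReduced_inf_geometricallyIrreducible]
      refine ⟨?_, MorphismProperty.of_isPullback (P := @GeometricallyIrreducible)
        (isPullback_restrict_le q (show W ≤ W₂ from inf_le_left.trans inf_le_right)) hirr⟩
      rw [GeometricallyReduced.eq_geometrically, geometrically_iff_forall_fiberToSpecResidueField]
      intro y
      have h : GeometricallyReduced (q.fiberToSpecResidueField (W.ι y)) := hsub₃ y.2.2
      rw [GeometricallyReduced.eq_geometrically] at h
      exact MorphismProperty.of_isPullback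
        (isPullback_fiberToSpecResidueField_of_isPullback (isPullback_morphismRestrict q W).flip y) h
  choose W hW hWC using key
  haveI : Finite (irreducibleComponents (P : Type u)) := NoetherianSpace.finite_irreducibleComponents.to_subtype
  letI := Fintype.ofFinite (irreducibleComponents (P : Type u))
  refine ⟨Finset.univ.inf W, ⟨η, ?_⟩, fun C hC hne => ?_⟩
  · refine Finset.inf_induction (p := fun O : T.Opens => η ∈ O) trivial (fun a ha b hb => ⟨ha, hb⟩) fun C _ => hW C
  · have hle : Finset.univ.inf W ≤ W ⟨C, hC⟩ := Finset.inf_le (Finset.mem_univ _)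
    obtain ⟨x, hxC, hxW⟩ := hne
    obtain ⟨h1, h2⟩ := hWC ⟨C, hC⟩ ⟨x, hxC, hle hxW⟩
    exact ⟨MorphismProperty.of_isPullback (P := @Flat) (isPullback_restrict_le _ hle) h1,
      MorphismProperty.of_isPullback (P := @GeometricallyIntegral) (isPullback_restrict_le _ hle) h2⟩

end Groth.Agent.Spread4
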