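import Mathlib

/-! A finite model of a finite extension of the fraction field. -/

universe u

namespace Groth.Agent.Spread4

theorem exists_finite_model (A K L : Type u) [CommRing A] [IsDomain A] [Field K] [Algebra A K] [IsFractionRing A K]
    [Field L] [Algebra K L] [FiniteDimensional K L] [Algebra A L] [IsScalarTower A K L] :
    ∃ B : Subalgebra A L, Module.Finite A B ∧ Function.Injective (algebraMap A B) ∧
      ∀ x : L, ∃ b d : B, (d : L) ≠ 0 ∧ x = (b : L) / (d : L) := by
  classical
  let bas := Module.finBasis K L
  haveI : Algebra.IsAlgebraic A L := (IsFractionRing.comap_isAlgebraic_iff (A := A) (K := K) (C := L)).2 inferInstance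
  obtain ⟨y, hy, hys⟩ := Algebra.IsAlgebraic.exists_integral_multiples A (Finset.univ.image bas)
  let g : Fin (Module.finrank K L) → L := fun i => algebraMap A L y * bas i
  have hinjL : Function.Injective (algebraMap A L) := by
    rw [IsScalarTower.algebraMap_eq A K L]
    exact (algebraMap K L).injective.comp (IsFractionRing.injective A K)
  have hyL : algebraMap A L y ≠ 0 := (map_ne_zero_iff _ hinjL).2 hy
  have hg : ∀ i, IsIntegral A (g i) := fun i => by
    have h := hys (bas i) (Finset.mem_image_of_mem _ (Finset.mem_univ i))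
    rwa [Algebra.smul_def] at h
  refine ⟨Algebra.adjoin A (Set.range g), Module.Finite.iff_fg.2
    (fg_adjoin_of_finite (Set.finite_range g) fun b hb => ?_), fun a b h => hinjL (congrArg Subtype.val h), fun x => ?_⟩
  · obtain ⟨i, rfl⟩ := hb; exact hg i
  obtain ⟨⟨t, ht⟩, htx⟩ := IsLocalization.exist_integer_multiples (nonZeroDivisors A) Finset.univ fun i => bas.repr x i
  choose a ha using fun i => htx i (Finset.mem_univ i)
  have hD : algebraMap A L (t * y) ≠ 0 := by
    rw [map_mul]
    exact mul_ne_zero ((map_ne_zero_iff _ hinjL).2 (nonZeroDivisors.ne_zero ht)) hyL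
  refine ⟨⟨∑ i, algebraMap A L (a i) * g i, sum_mem fun i _ =>
    mul_mem (Subalgebra.algebraMap_mem _ _) (Algebra.subset_adjoin (Set.mem_range_self i))⟩,
    algebraMap A _ (t * y), hD, ?_⟩
  rw [eq_div_iff (by exact hD)]
  show x * algebraMap A L (t * y) = ∑ i, algebraMap A L (a i) * (algebraMap A L y * bas i)
  conv_lhs => rw [← bas.sum_repr x, Finset.sum_mul]
  refine Finset.sum_congr rfl fun i _ => ?_
  rw [IsScalarTower.algebraMap_apply A K L (a i), ha i, Algebra.smul_def, Algebra.smul_def, map_mul,
    map_mul, ← IsScalarTower.algebraMap_apply A K L t]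
  ring

end Groth.Agent.Spread4
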