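import Groth.Agent.S0414
import Groth.Agent.Lib.RedSep.Basic

/-! A finite type morphism to an integral affine scheme is quasi-separated over a nonempty open. -/

universe u

open CategoryTheory CategoryTheory.Limits AlgebraicGeometry TopologicalSpace

set_option linter.style.haveILetI false
set_option backward.isDefEq.respectTransparency false

namespace Groth.Agent.Spread4

theorem exists_compact_inter {U Y : Scheme.{u}} [IsAffine U] [IsAffine Y] [IsIntegral Y] (g : U ⟶ Y)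
    [LocallyOfFiniteType g] (O : U.Opens) :
    ∃ W : Y.Opens, (W : Set Y).Nonempty ∧
      ∀ V : Y.Opens, V ≤ W → IsAffineOpen V → IsCompact ((O : Set U) ∩ (g ⁻¹ᵁ V : Set U)) := by
  classical
  let η := genericPoint Y
  haveI : IsNoetherian (g.fiber η) := by
    haveI : LocallyOfFiniteType (g.fiberToSpecResidueField η) := MorphismProperty.pullback_snd _ _ inferInstance
    haveI : QuasiCompact (g.fiberToSpecResidueField η) := MorphismProperty.pullback_snd _ _ inferInstance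
    haveI : IsLocallyNoetherian (g.fiber η) := LocallyOfFiniteType.isLocallyNoetherian (g.fiberToSpecResidueField η)
    haveI : CompactSpace (g.fiber η) := QuasiCompact.compactSpace_of_compactSpace (g.fiberToSpecResidueField η)
    exact {}
  have hOη : IsCompact ((O : Set U) ∩ g ⁻¹' {η}) := by
    rw [← Scheme.Hom.range_fiberι, ← Set.image_preimage_eq_inter_range]
    exact (TopologicalSpace.NoetherianSpace.isCompact _).image (g.fiberι η).continuous
  obtain ⟨Q, hQc, hQη, hQO⟩ : ∃ Q : U.Opens, IsCompact (Q : Set U) ∧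
      ((O : Set U) ∩ g ⁻¹' {η} ⊆ Q) ∧ Q ≤ O := by
    have h : ∀ x : ↥((O : Set U) ∩ g ⁻¹' {η}), ∃ V : U.Opens, IsAffineOpen V ∧ (x : U) ∈ V ∧ V ≤ O := fun x =>
      exists_isAffineOpen_mem_and_subset x.2.1
    choose V hV hxV hVO using h
    obtain ⟨t, ht⟩ := hOη.elim_finite_subcover (fun x => (V x : Set U)) (fun x => (V x).isOpen)
      (fun x hx => Set.mem_iUnion.2 ⟨⟨x, hx⟩, hxV ⟨x, hx⟩⟩)
    refine ⟨⨆ x ∈ t, V x, ?_, fun x hx => ?_, iSup₂_le fun x _ => hVO x⟩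
    · simp only [Opens.coe_iSup]
      exact t.finite_toSet.isCompact_biUnion fun x _ => (hV x).isCompact
    · simp only [Opens.coe_iSup]
      exact ht hx
  let I : U.IdealSheafData := Scheme.IdealSheafData.vanishingIdeal ⟨(Q : Set U)ᶜ, Q.isOpen.isClosed_compl⟩
  have hI : Set.range I.subschemeι = (Q : Set U)ᶜ := by
    rw [Scheme.IdealSheafData.range_subschemeι, Scheme.IdealSheafData.coe_support_vanishingIdeal]
    rfl
  obtain ⟨W, hW, hflat, -⟩ := S0414.result (I.subschemeι ≫ g)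
  refine ⟨W, hW.nonempty, fun V hVW hV => ?_⟩
  have hsub : (O : Set U) ∩ (g ⁻¹ᵁ V : Set U) = (Q : Set U) ∩ (g ⁻¹ᵁ V : Set U) := by
    refine Set.Subset.antisymm ?_ (Set.inter_subset_inter_left _ hQO)
    rintro z ⟨hzO, hzV⟩
    refine ⟨by_contra fun hzQ => ?_, hzV⟩
    obtain ⟨z₁, hz₁⟩ : z ∈ Set.range I.subschemeι := hI ▸ hzQ
    have hz₁W : z₁ ∈ (I.subschemeι ≫ g) ⁻¹ᵁ W := by
      show g (I.subschemeι z₁) ∈ W
      rw [hz₁]; exact hVW hzV
    haveI := hflat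
    have hgen := Flat.generalizingMap ((I.subschemeι ≫ g) ∣_ W)
    let z₂ : ((I.subschemeι ≫ g) ⁻¹ᵁ W : Scheme.{u}) := ⟨z₁, hz₁W⟩
    have hηW : η ∈ W := ((genericPoint_spec Y).mem_open_set_iff W.isOpen).2
      (by simpa using hW.nonempty)
    obtain ⟨z', hz', e'⟩ := hgen (a := z₂) (show (⟨η, hηW⟩ : ↥(W : Scheme.{u})) ⤳ _ from
      (subtype_specializes_iff _ _).2 (genericPoint_specializes _))
    have hz'z : I.subschemeι z'.1 ⤳ z := by
      rw [← hz₁]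
      exact ((subtype_specializes_iff _ _).1 hz').map I.subschemeι.continuous
    have hz'Q : I.subschemeι z'.1 ∉ Q := by
      have : I.subschemeι z'.1 ∈ Set.range I.subschemeι := ⟨_, rfl⟩
      rw [hI] at this
      exact this
    refine hz'Q (hQη ⟨hz'z.mem_open O.isOpen hzO, ?_⟩)
    show g (I.subschemeι z'.1) = η
    have h1 := congrArg Subtype.val e'
    rw [morphismRestrict_base_coe] at h1
    exact h1
  rw [hsub]
  exact QuasiSeparatedSpace.inter_isCompact _ _ Q.isOpen hQc (g ⁻¹ᵁ V).isOpen (hV.preimage g).isCompact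

theorem exists_quasiSeparated_open {X Y : Scheme.{u}} [IsAffine Y] [IsIntegral Y] (f : X ⟶ Y)
    [LocallyOfFiniteType f] [QuasiCompact f] :
    ∃ W : Y.Opens, (W : Set Y).Nonempty ∧ ∀ V : Y.Opens, V ≤ W → IsAffineOpen V → QuasiSeparated (f ∣_ V) := by
  classical
  haveI : CompactSpace X := QuasiCompact.compactSpace_of_compactSpace f
  obtain ⟨t, ht⟩ := (isCompact_univ (X := X)).elim_finite_subcover (fun U : X.affineOpens => (U.1 : Set X))
    (fun U => U.1.isOpen) (fun x _ => by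
      obtain ⟨U, hU, hx, -⟩ := exists_isAffineOpen_mem_and_subset (X := X) (x := x) (U := ⊤) trivial
      exact Set.mem_iUnion.2 ⟨⟨U, hU⟩, hx⟩)
  have hp : ∀ p : ↥t × ↥t, ∃ W : Y.Opens, (W : Set Y).Nonempty ∧ ∀ V : Y.Opens, V ≤ W → IsAffineOpen V →
      IsCompact ((p.1.1.1 : Set X) ∩ (p.2.1.1 : Set X) ∩ (f ⁻¹ᵁ V : Set X)) := fun p => by
    haveI : IsAffine p.1.1.1 := p.1.1.2
    obtain ⟨W, hW, h⟩ := exists_compact_inter (p.1.1.1.ι ≫ f) (p.1.1.1.ι ⁻¹ᵁ p.2.1.1)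
    refine ⟨W, hW, fun V hV hVa => ?_⟩
    have := (h V hV hVa).image p.1.1.1.ι.continuous
    convert this using 1
    ext x
    constructor
    · rintro ⟨⟨h1, h2⟩, h3⟩
      exact ⟨⟨x, h1⟩, ⟨h2, h3⟩, rfl⟩
    · rintro ⟨⟨x, h1⟩, ⟨h2, h3⟩, rfl⟩
      exact ⟨⟨h1, h2⟩, h3⟩
  choose W hW hWc using hp
  refine ⟨Finset.univ.inf W, ⟨genericPoint Y, ?_⟩, fun V hV hVa => ?_⟩
  · show genericPoint Y ∈ Finset.univ.inf W
    refine Finset.inf_induction (p := fun O : Y.Opens => genericPoint Y ∈ O) trivial (fun a ha b hb => ⟨ha, hb⟩)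
      fun p _ => ((genericPoint_spec Y).mem_open_set_iff (W p).isOpen).2 (by simpa using hW p)
  haveI : IsAffine V := hVa
  rw [quasiSeparated_iff_quasiSeparatedSpace]
  refine isQuasiSeparated_iff_quasiSeparatedSpace ((f ⁻¹ᵁ V : X.Opens) : Set X) (f ⁻¹ᵁ V).isOpen |>.1 ?_
  have haff : ∀ U : ↥t, IsAffineOpen (U.1.1 ⊓ f ⁻¹ᵁ V) := fun U => by
    haveI : IsAffine U.1.1 := U.1.2
    have h1 := (hVa.preimage (U.1.1.ι ≫ f)).image_of_isOpenImmersion U.1.1.ι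
    convert h1 using 1
    rw [Scheme.Hom.comp_preimage, Scheme.Hom.image_preimage_eq_opensRange_inf, Scheme.Opens.opensRange_ι]
  -- decompose compact opens
  have hdec : ∀ A : Set X, IsOpen A → IsCompact A → A ⊆ (f ⁻¹ᵁ V : Set X) →
      ∃ D : Set (X.Opens × ↥t), D.Finite ∧ A = ⋃ d ∈ D, (d.1 : Set X) ∧
        ∀ d ∈ D, IsCompact (d.1 : Set X) ∧ d.1 ≤ d.2.1.1 ⊓ f ⁻¹ᵁ V := by
    intro A hA hAc hAV
    have hh : ∀ x : A, ∃ (O : X.Opens) (U : ↥t), (x : X) ∈ O ∧ IsAffineOpen O ∧ (O : Set X) ⊆ A ∧ O ≤ U.1.1 := fun x => by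
      obtain ⟨U, hU, hxU⟩ : ∃ U ∈ t, (x : X) ∈ (U.1 : Set X) := by simpa using ht (Set.mem_univ (x : X))
      obtain ⟨O, hO, hxO, hOA⟩ := exists_isAffineOpen_mem_and_subset (X := X) (x := (x : X))
        (U := ⟨A, hA⟩ ⊓ U.1) ⟨x.2, hxU⟩
      exact ⟨O, ⟨U, hU⟩, hxO, hO, fun z hz => (hOA hz).1, fun z hz => (hOA hz).2⟩
    choose O U hxO hO hOA hOU using hh
    obtain ⟨s, hs⟩ := hAc.elim_finite_subcover (fun x => (O x : Set X)) (fun x => (O x).isOpen)
      (fun x hx => Set.mem_iUnion.2 ⟨⟨x, hx⟩, hxO ⟨x, hx⟩⟩)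
    refine ⟨(fun x => (O x, U x)) '' (s : Set A), s.finite_toSet.image _, Set.Subset.antisymm ?_ ?_, ?_⟩
    · rw [Set.biUnion_image]; exact hs
    · rw [Set.biUnion_image]; exact Set.iUnion₂_subset fun x _ => hOA x
    · rintro _ ⟨x, -, rfl⟩
      exact ⟨(hO x).isCompact, le_inf (hOU x) fun z hz => hAV (hOA x hz)⟩
  intro A B hAV hA hAc hBV hB hBc
  obtain ⟨D, hD, rfl, hDD⟩ := hdec A hA hAc hAV
  obtain ⟨E, hE, rfl, hEE⟩ := hdec B hB hBc hBV
  rw [Set.iUnion₂_inter]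
  refine hD.isCompact_biUnion fun d hd => ?_
  rw [Set.inter_iUnion₂]
  refine hE.isCompact_biUnion fun e he => ?_
  let O : X.Opens := d.2.1.1 ⊓ e.2.1.1 ⊓ f ⁻¹ᵁ V
  have hOc : IsCompact (O : Set X) :=
    hWc (d.2, e.2) V (hV.trans (Finset.inf_le (Finset.mem_univ (d.2, e.2)))) hVa
  have hO₁ : O ≤ d.2.1.1 ⊓ f ⁻¹ᵁ V := le_inf (inf_le_left.trans inf_le_left) inf_le_right
  have hO₂ : O ≤ e.2.1.1 ⊓ f ⁻¹ᵁ V := le_inf (inf_le_left.trans inf_le_right) inf_le_right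
  have h1 : IsCompact ((d.1 : Set X) ∩ O) :=
    (haff d.2).isQuasiSeparated _ _ (hDD d hd).2 d.1.isOpen (hDD d hd).1 hO₁ O.isOpen hOc
  have h2 : IsCompact ((e.1 : Set X) ∩ O) :=
    (haff e.2).isQuasiSeparated _ _ (hEE e he).2 e.1.isOpen (hEE e he).1 hO₂ O.isOpen hOc
  have h3 : IsCompact (((d.1 : Set X) ∩ O) ∩ ((e.1 : Set X) ∩ O)) :=
    (haff d.2).isQuasiSeparated _ _ (Set.inter_subset_right.trans hO₁) (d.1.isOpen.inter O.isOpen) h1
      (Set.inter_subset_right.trans hO₁) (e.1.isOpen.inter O.isOpen) h2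
  convert h3 using 1
  ext z
  constructor
  · rintro ⟨h4, h5⟩
    have h6 : z ∈ (O : Set X) := ⟨⟨((hDD d hd).2 h4).1, ((hEE e he).2 h5).1⟩, ((hDD d hd).2 h4).2⟩
    exact ⟨⟨h4, h6⟩, h5, h6⟩
  · rintro ⟨⟨h4, -⟩, h5, -⟩
    exact ⟨h4, h5⟩

end Groth.Agent.Spread4
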