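import Mathlib.AlgebraicGeometry.Geometrically.Reduced
import Mathlib.AlgebraicGeometry.Geometrically.Connected

/-! Small lemmas on open parts of morphisms. -/

universe u

open CategoryTheory CategoryTheory.Limits AlgebraicGeometry

set_option linter.style.haveILetI false
set_option backward.isDefEq.respectTransparency false

namespace Groth.Agent.Spread4

theorem isPullback_comp_mono {P A B C D : Scheme.{u}} {p : P ⟶ A} {q : P ⟶ B} {f : A ⟶ C} {g : B ⟶ C}
    (sq : IsPullback p q f g) (i : C ⟶ D) [Mono i] : IsPullback p q (f ≫ i) (g ≫ i) :=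
  ⟨⟨by rw [reassoc_of% sq.w]⟩, ⟨PullbackCone.IsLimit.mk _
    (fun s => sq.lift s.fst s.snd ((cancel_mono i).1 (by simpa only [Category.assoc] using s.condition)))
    (fun s => sq.lift_fst _ _ _) (fun s => sq.lift_snd _ _ _)
    (fun s m h₁ h₂ => sq.hom_ext (by rw [h₁, sq.lift_fst]) (by rw [h₂, sq.lift_snd]))⟩⟩

theorem geometricallyReduced_comp_open {W X Y : Scheme.{u}} (j : W ⟶ X) [IsOpenImmersion j] (f : X ⟶ Y)
    [GeometricallyReduced f] : GeometricallyReduced (j ≫ f) := by
  refine ⟨fun K _ t T fst snd h => ?_⟩
  let m : T ⟶ pullback f t := pullback.lift (fst ≫ j) snd (by rw [Category.assoc]; exact h.w)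
  have hm : IsPullback fst m j (pullback.fst f t) := by
    refine IsPullback.of_bot ?_ (pullback.lift_fst _ _ _).symm (IsPullback.of_hasPullback f t)
    rw [show m ≫ pullback.snd f t = snd from pullback.lift_snd _ _ _]
    exact h
  haveI : IsOpenImmersion m := MorphismProperty.of_isPullback hm inferInstance
  haveI : IsReduced (pullback f t) := GeometricallyReduced.geometrically_isReduced _ _ _ (IsPullback.of_hasPullback f t)
  exact isReduced_of_isOpenImmersion m

end Groth.Agent.Spread4
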