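import Groth.Agent.Lib.RedSep.Basic
import Groth.Agent.Lib.Spread4.OpenPart
import Mathlib.AlgebraicGeometry.Geometrically.Irreducible

/-! A point has a geometrically connected open neighbourhood when the components are geometrically irreducible. -/

universe u

open CategoryTheory CategoryTheory.Limits AlgebraicGeometry

set_option linter.style.haveILetI false
set_option backward.isDefEq.respectTransparency false

namespace Groth.Agent.Spread4

theorem exists_geometricallyConnected_nhd {P : Scheme.{u}} {L : Type u} [Field L]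
    (π : P ⟶ Spec (CommRingCat.of L)) (hfin : (irreducibleComponents (P : Type u)).Finite)
    (hirr : ∀ (T : Set P) (hT : T ∈ irreducibleComponents (P : Type u)), GeometricallyIrreducible
      ((Scheme.IdealSheafData.vanishingIdeal ⟨T, isClosed_of_mem_irreducibleComponents T hT⟩).subschemeι ≫ π))
    (w : P) : ∃ O : P.Opens, w ∈ O ∧ GeometricallyConnected (O.ι ≫ π) := by
  classical
  let bad : Set P := ⋃ T ∈ {T ∈ irreducibleComponents (P : Type u) | w ∉ T}, T
  have hbad : IsClosed bad := (hfin.subset (fun T hT => hT.1)).isClosed_biUnion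
    fun T hT => isClosed_of_mem_irreducibleComponents T hT.1
  let O : P.Opens := ⟨badᶜ, hbad.isOpen_compl⟩
  have hwO : w ∈ O := fun hw => by
    obtain ⟨T, hT, hwT⟩ := Set.mem_iUnion₂.1 hw
    exact hT.2 hwT
  refine ⟨O, hwO, ⟨fun K _ t Z fst snd h => ?_⟩⟩
  let pK : pullback π t ⟶ P := pullback.fst π t
  let j : Z ⟶ pullback π t := pullback.lift (fst ≫ O.ι) snd (by rw [Category.assoc]; exact h.w)
  have hj : IsPullback fst j O.ι pK := by
    refine IsPullback.of_bot ?_ (pullback.lift_fst _ _ _).symm (IsPullback.of_hasPullback π t)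
    rw [show j ≫ pullback.snd π t = snd from pullback.lift_snd _ _ _]
    exact h
  haveI : IsOpenImmersion j := MorphismProperty.of_isPullback hj inferInstance
  have hrange : Set.range j = pK ⁻¹' (O : Set P) := by
    ext x
    constructor
    · rintro ⟨z, rfl⟩
      show pK (j z) ∈ O
      rw [← Scheme.Hom.comp_apply, show j ≫ pK = fst ≫ O.ι from pullback.lift_fst _ _ _, Scheme.Hom.comp_apply]
      exact (fst z).2
    · intro hx
      obtain ⟨z, -, hz⟩ := Scheme.exists_preimage_of_isPullback hj ⟨pK x, hx⟩ x rfl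
      exact ⟨z, hz⟩
  obtain ⟨w', hw', -⟩ := Scheme.Pullback.exists_preimage_pullback (f := π) (g := t) w
    (IsLocalRing.closedPoint K) (Subsingleton.elim (α := PrimeSpectrum L) _ _)
  have hconn : _root_.IsConnected (pK ⁻¹' (O : Set P)) := by
    refine ⟨⟨w', show pK w' ∈ O by rw [hw']; exact hwO⟩, ?_⟩
    refine isPreconnected_of_forall w' fun x hx => ?_
    obtain ⟨T, hT, hxT⟩ : ∃ T ∈ irreducibleComponents (P : Type u), pK x ∈ T :=
      ⟨irreducibleComponent (pK x), irreducibleComponent_mem_irreducibleComponents _, mem_irreducibleComponent⟩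
    have hwT : w ∈ T := by_contra fun hn => hx (Set.mem_biUnion (show T ∈ {T ∈ irreducibleComponents (P : Type u) | w ∉ T} from ⟨hT, hn⟩) hxT)
    let I := Scheme.IdealSheafData.vanishingIdeal ⟨T, isClosed_of_mem_irreducibleComponents T hT⟩
    haveI := hirr T hT
    let iK : pullback (I.subschemeι ≫ π) t ⟶ pullback π t :=
      pullback.lift (pullback.fst _ _ ≫ I.subschemeι) (pullback.snd _ _) (by rw [Category.assoc, pullback.condition])
    have hiK : IsPullback (pullback.fst (I.subschemeι ≫ π) t) iK I.subschemeι pK := by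
      refine IsPullback.of_bot ?_ (pullback.lift_fst _ _ _).symm (IsPullback.of_hasPullback π t)
      rw [show iK ≫ pullback.snd π t = _ from pullback.lift_snd _ _ _]
      exact IsPullback.of_hasPullback _ _
    haveI : IrreducibleSpace ↥(pullback (I.subschemeι ≫ π) t) :=
      GeometricallyIrreducible.geometrically_irreducibleSpace (f := I.subschemeι ≫ π) t _ _ (IsPullback.of_hasPullback _ _)
    have hpre : Set.range iK = pK ⁻¹' T := by
      ext y
      constructor
      · rintro ⟨z, rfl⟩
        show pK (iK z) ∈ T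
        rw [← Scheme.Hom.comp_apply, show iK ≫ pK = _ from pullback.lift_fst _ _ _, Scheme.Hom.comp_apply]
        have h1 : I.subschemeι (pullback.fst (I.subschemeι ≫ π) t z) ∈ Set.range I.subschemeι := ⟨_, rfl⟩
        rw [Scheme.IdealSheafData.range_subschemeι, Scheme.IdealSheafData.coe_support_vanishingIdeal] at h1
        exact h1
      · intro hy
        obtain ⟨z₀, hz₀⟩ : pK y ∈ Set.range I.subschemeι := by
          rw [Scheme.IdealSheafData.range_subschemeι, Scheme.IdealSheafData.coe_support_vanishingIdeal]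
          exact hy
        obtain ⟨z, -, hz⟩ := Scheme.exists_preimage_of_isPullback hiK z₀ y hz₀
        exact ⟨z, hz⟩
    have hirrT : _root_.IsPreirreducible (pK ⁻¹' T) := by
      rw [← hpre, ← Set.image_univ]
      exact (PreirreducibleSpace.isPreirreducible_univ).image _ iK.continuous.continuousOn
    refine ⟨pK ⁻¹' T ∩ pK ⁻¹' (O : Set P), Set.inter_subset_right, ⟨?_, ?_⟩, ⟨hxT, hx⟩,
      _root_.IsPreirreducible.isPreconnected fun u v hu hv ⟨a, ⟨haT, haO⟩, hau⟩ ⟨b, ⟨hbT, hbO⟩, hbv⟩ => by
        obtain ⟨c, hcT, ⟨hcO, hcu⟩, -, hcv⟩ := hirrT _ _ ((pK ⁻¹ᵁ O).isOpen.inter hu) ((pK ⁻¹ᵁ O).isOpen.inter hv)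
          ⟨a, haT, haO, hau⟩ ⟨b, hbT, hbO, hbv⟩
        exact ⟨c, ⟨hcT, hcO⟩, hcu, hcv⟩⟩
    · show pK w' ∈ T
      rw [hw']; exact hwT
    · show pK w' ∈ O
      rw [hw']; exact hwO
  haveI : ConnectedSpace (Set.range j) := Subtype.connectedSpace (by rw [hrange]; exact hconn)
  exact (j.isOpenEmbedding.isEmbedding.toHomeomorph.connectedSpace_iff).2 inferInstance

end Groth.Agent.Spread4
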