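import Groth.Prelude.Def_Hens2
import Groth.Prelude.Def_Mor2
import Groth.Agent.S9762
import Groth.Agent.S2156
import Groth.Agent.S0412
import Groth.Agent.Lib.SepDense19.Basic
import Groth.Agent.Lib.RigidRel.MulEtale

/-! Finite etale quasi-sections after an elementary etale neighbourhood. -/

universe u

open CategoryTheory CategoryTheory.Limits AlgebraicGeometry

set_option linter.style.haveILetI false
set_option backward.isDefEq.respectTransparency false

namespace Groth.Agent.Spread4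

theorem isEtaleNbhd_comp {U V S : Scheme.{u}} (a : U ⟶ V) (b : V ⟶ S) (u : U) (s : S)
    [Etale a] [Etale b] (hs : b (a u) = s) (ha : Function.Bijective (a.residueFieldMap u))
    (hb : Function.Bijective (b.residueFieldMap (a u))) : Hens2.IsEtaleNbhd (a ≫ b) u s := by
  refine ⟨inferInstance, hs, ?_⟩
  rw [Scheme.residueFieldMap_comp]
  exact ha.comp hb

theorem discreteTopology_fiber {X Y : Scheme.{u}} (f : X ⟶ Y) [Etale f] (y : Y) : DiscreteTopology (f.fiber y) := by
  haveI : LocallyQuasiFinite f := MulEtale.locallyQuasiFinite_of_unramified f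
  haveI : LocallyQuasiFinite (f.fiberToSpecResidueField y) := MorphismProperty.pullback_snd _ _ inferInstance
  haveI : IsLocallyArtinian (f.fiber y) := .of_locallyQuasiFinite (f.fiberToSpecResidueField y)
  infer_instance

/-- An etale neighbourhood is dominated by a finite locally free cover of an elementary one. -/
theorem exists_finLocFree_over_nbhd {U S : Scheme.{u}} (e : U ⟶ S) [Etale e] (u : U) (s : S) (hu : e u = s) :
    ∃ (S₁ : Scheme.{u}) (g : S₁ ⟶ S) (s₁ : S₁) (Z : Scheme.{u}) (gZ : Z ⟶ S₁) (τ : Z ⟶ U),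
      IsAffine S₁ ∧ Hens2.IsEtaleNbhd g s₁ s ∧ Mor2.IsFinLocFree gZ ∧ s₁ ∈ Set.range gZ ∧ τ ≫ e = gZ ≫ g := by
  obtain ⟨S₀, hS₀, hs₀, -⟩ := exists_isAffineOpen_mem_and_subset (X := S) (x := s) (U := ⊤) trivial
  obtain ⟨Ua, hUa, huUa, hUaS₀⟩ := exists_isAffineOpen_mem_and_subset (X := U) (x := u) (U := e ⁻¹ᵁ S₀)
    (by show e u ∈ S₀; rw [hu]; exact hs₀)
  haveI : IsAffine Ua := hUa
  haveI : IsAffine S₀ := hS₀
  let e₀ : (Ua : Scheme.{u}) ⟶ (S₀ : Scheme.{u}) := e.resLE S₀ Ua hUaS₀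
  let s₀ : (S₀ : Scheme.{u}) := ⟨s, hs₀⟩
  let u₀ : (Ua : Scheme.{u}) := ⟨u, huUa⟩
  have hu₀ : e₀ u₀ = s₀ := by
    apply S₀.ι.isOpenEmbedding.injective
    rw [← Scheme.Hom.comp_apply, Scheme.Hom.resLE_comp_ι]
    exact hu
  haveI : LocallyQuasiFinite e₀ := MulEtale.locallyQuasiFinite_of_unramified e₀
  haveI : Finite (e₀.fiber s₀) := by
    have h1 : (e₀ ⁻¹' {s₀}).Finite := e₀.finite_preimage_singleton s₀
    haveI := h1.to_subtype
    exact Finite.of_equiv _ (e₀.fiberHomeo s₀).symm.toEquiv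
  obtain ⟨U', g₀, s', hg₀, V, hVc, hVfin, hViso⟩ := S9762.result e₀ s₀ (Set.toFinite _)
  haveI := hg₀.etale
  obtain ⟨w, hw1, hw2⟩ := Scheme.Pullback.exists_preimage_pullback (f := e₀) (g := g₀) u₀ s'
    (by rw [hu₀, hg₀.base_eq])
  have hwV : w ∈ V := by
    haveI : DiscreteTopology ((pullback.snd e₀ g₀).fiber s') := discreteTopology_fiber _ _
    obtain ⟨w', rfl⟩ : w ∈ Set.range ((pullback.snd e₀ g₀).fiberι s') := by
      rw [Scheme.Hom.range_fiberι]; exact hw2
    exact by_contra fun h => hViso w' h (isOpen_discrete _)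
  obtain ⟨U₁, hU₁, hs'U₁, -⟩ := exists_isAffineOpen_mem_and_subset (X := U') (x := s') (U := ⊤) trivial
  haveI : IsAffine U₁ := hU₁
  haveI := hVfin
  let gV : (V : Scheme.{u}) ⟶ U' := V.ι ≫ pullback.snd e₀ g₀
  let gZ : pullback gV U₁.ι ⟶ (U₁ : Scheme.{u}) := pullback.snd gV U₁.ι
  haveI : IsFinite gZ := MorphismProperty.pullback_snd _ _ hVfin
  haveI : Etale gV := inferInstance
  haveI : Etale gZ := MorphismProperty.pullback_snd _ _ inferInstance
  let τ : pullback gV U₁.ι ⟶ U := pullback.fst gV U₁.ι ≫ V.ι ≫ pullback.fst e₀ g₀ ≫ Ua.ι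
  refine ⟨U₁, U₁.ι ≫ g₀ ≫ S₀.ι, ⟨s', hs'U₁⟩, pullback gV U₁.ι, gZ, τ, inferInstance, ?_,
    ⟨inferInstance, inferInstance, inferInstance⟩, ?_, ?_⟩
  · haveI : Etale (g₀ ≫ S₀.ι) := inferInstance
    refine isEtaleNbhd_comp U₁.ι (g₀ ≫ S₀.ι) ⟨s', hs'U₁⟩ s ?_ ?_ ?_
    · show S₀.ι (g₀ s') = s
      rw [hg₀.base_eq]; rfl
    · exact ConcreteCategory.bijective_of_isIso _
    · show Function.Bijective ((g₀ ≫ S₀.ι).residueFieldMap s')
      rw [Scheme.residueFieldMap_comp]
      exact hg₀.residue_bijective.comp (ConcreteCategory.bijective_of_isIso (S₀.ι.residueFieldMap (g₀ s')))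
  · obtain ⟨z, -, hz⟩ := Scheme.Pullback.exists_preimage_pullback (f := gV) (g := U₁.ι) ⟨w, hwV⟩ ⟨s', hs'U₁⟩
      (by show pullback.snd e₀ g₀ w = s'; exact hw2)
    exact ⟨z, hz⟩
  · simp only [τ, Category.assoc]
    rw [← Scheme.Hom.resLE_comp_ι (f := e) hUaS₀, reassoc_of% (pullback.condition (f := e₀) (g := g₀)),
      ← reassoc_of% (show gZ ≫ U₁.ι = pullback.fst gV U₁.ι ≫ V.ι ≫ pullback.snd e₀ g₀ from
        pullback.condition.symm)]

/-- A flat morphism with geometrically reduced non-empty fibre is smooth somewhere on the fibre. -/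
theorem exists_smooth_point {Y S : Scheme.{u}} (h : Y ⟶ S) [Flat h] [LocallyOfFinitePresentation h] (s : S)
    (hred : GeometricallyReduced (h.fiberToSpecResidueField s)) (hne : Nonempty (h.fiber s)) :
    ∃ x : Y, h x = s ∧ x ∈ h.smoothLocus := by
  let g := h.fiberToSpecResidueField s
  letI : (h.fiber s).Over (Spec (CommRingCat.of (S.residueField s))) := ⟨g⟩
  haveI : GeometricallyReduced ((h.fiber s) ↘ Spec (CommRingCat.of (S.residueField s))) := hred
  haveI : LocallyOfFinitePresentation g := MorphismProperty.pullback_snd _ _ inferInstance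
  haveI : LocallyOfFinitePresentation ((h.fiber s) ↘ Spec (CommRingCat.of (S.residueField s))) :=
    inferInstanceAs (LocallyOfFinitePresentation g)
  haveI : LocallyOfFiniteType ((h.fiber s) ↘ Spec (CommRingCat.of (S.residueField s))) :=
    inferInstanceAs (LocallyOfFiniteType g)
  obtain ⟨z, hz⟩ := (SepDense19.dense_smoothLocus (k := S.residueField s) (X := h.fiber s)).nonempty
  have hzs : h (h.fiberι s z) = s := by
    have : h.fiberι s z ∈ Set.range (h.fiberι s) := ⟨z, rfl⟩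
    rw [Scheme.Hom.range_fiberι] at this
    exact this
  refine ⟨h.fiberι s z, hzs, ?_⟩
  generalize hx : h.fiberι s z = x at hzs
  subst hzs
  haveI : LocallyOfFinitePresentation (h.fiberToSpecResidueField (h x)) :=
    MorphismProperty.pullback_snd _ _ inferInstance
  refine (S2156.result h _).2 ⟨Flat.stalkMap h _, ?_⟩
  rw [(h.fiberι _).isEmbedding.injective ((h.fiberι_asFiber _).trans hx.symm)]
  exact hz

end Groth.Agent.Spread4
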