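import Groth.Agent.Lib.NormalProd12.Basic
import Groth.Agent.S9413

/-! Base change of a normal morphism to a field is normal. -/

universe u

open CategoryTheory CategoryTheory.Limits AlgebraicGeometry TensorProduct

set_option linter.style.haveILetI false
set_option backward.isDefEq.respectTransparency false

namespace Groth.Agent.Spread4

theorem isNormalRing_field (K : Type u) [Field K] : EGA4.IsNormalRing K := fun p _ =>
  ⟨IsLocalization.isDomain_localization p.primeCompl_le_nonZeroDivisors,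
    isIntegrallyClosed_of_isLocalization (Localization.AtPrime p) p.primeCompl p.primeCompl_le_nonZeroDivisors⟩

theorem isNormalRing_tensor_field {A B K : Type u} [CommRing A] [CommRing B] [Field K] [Algebra A B] [Algebra A K]
    (h : EGA4.IsNormalHom A B) : EGA4.IsNormalRing (B ⊗[A] K) := by
  let p : Ideal A := RingHom.ker (algebraMap A K)
  haveI : p.IsPrime := RingHom.ker_isPrime _
  let ψ : p.ResidueField →+* K := IsFractionRing.lift (A := A ⧸ p)
    (g := Ideal.Quotient.lift p (algebraMap A K) fun a ha => ha)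
    (RingHom.lift_injective_of_ker_le_ideal _ _ (le_refl p))
  letI : Algebra p.ResidueField K := ψ.toAlgebra
  haveI : IsScalarTower A p.ResidueField K := IsScalarTower.of_algebraMap_eq fun a => by
    show algebraMap A K a = ψ (algebraMap A p.ResidueField a)
    rw [IsScalarTower.algebraMap_apply A (A ⧸ p) p.ResidueField, IsFractionRing.lift_algebraMap]
    rfl
  have h1 : EGA4.IsNormalRing (p.Fiber B ⊗[p.ResidueField] K) :=
    S9413.result p.ResidueField (p.Fiber B) K (h.2 p) (isNormalRing_field K)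
  let e : p.Fiber B ⊗[p.ResidueField] K ≃+* B ⊗[A] K :=
    ((Algebra.TensorProduct.comm p.ResidueField (p.Fiber B) K).toRingEquiv.trans
      (Algebra.TensorProduct.cancelBaseChange A p.ResidueField K K B).toRingEquiv).trans
      (Algebra.TensorProduct.comm A K B).toRingEquiv
  exact FlatDepth.isNormalRing_of_ringEquiv e h1

theorem isNormalScheme_pullback_field {Y S : Scheme.{u}} (h : Y ⟶ S)
    (hn : ∀ (U : Y.Opens) (V : S.Opens) (hU : IsAffineOpen U) (hV : IsAffineOpen V) (hUV : U ≤ h ⁻¹ᵁ V),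
      letI := (h.appLE V U hUV).hom.toAlgebra
      EGA4.IsNormalHom Γ(S, V) Γ(Y, U))
    (K : Type u) [Field K] (τ : Spec (CommRingCat.of K) ⟶ S) : Pi1.IsNormalScheme (pullback h τ) := by
  intro z
  obtain ⟨V, hV, hsV, -⟩ := exists_isAffineOpen_mem_and_subset (X := S)
    (x := τ (IsLocalRing.closedPoint K)) (U := ⊤) trivial
  have hhz : h (pullback.fst h τ z) ∈ V := by
    rw [← Scheme.Hom.comp_apply, pullback.condition, Scheme.Hom.comp_apply]
    convert hsV
    exact Subsingleton.elim (α := PrimeSpectrum K) _ _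
  obtain ⟨U, hU, hzU, hUV⟩ := exists_isAffineOpen_mem_and_subset (X := Y)
    (x := pullback.fst h τ z) (U := h ⁻¹ᵁ V) hhz
  letI algB := (h.appLE V U hUV).hom.toAlgebra
  obtain ⟨φ, hφ⟩ : ∃ φ : Γ(S, V) ⟶ CommRingCat.of K, Spec.map φ ≫ hV.fromSpec = τ := by
    have hr : Set.range τ ⊆ Set.range hV.fromSpec := by
      rintro _ ⟨t, rfl⟩
      rw [hV.range_fromSpec]
      rw [show t = IsLocalRing.closedPoint K from Subsingleton.elim (α := PrimeSpectrum K) _ _]
      exact hsV
    obtain ⟨φ, hφ⟩ := Spec.map_surjective (IsOpenImmersion.lift hV.fromSpec τ hr)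
    exact ⟨φ, by rw [hφ, IsOpenImmersion.lift_fac]⟩
  letI algK : Algebra Γ(S, V) K := φ.hom.toAlgebra
  have hN := isNormalRing_tensor_field (K := K) (hn U V hU hV hUV)
  have eU : Spec.map (CommRingCat.ofHom (algebraMap Γ(S, V) Γ(Y, U))) ≫ hV.fromSpec = hU.fromSpec ≫ h :=
    IsAffineOpen.SpecMap_appLE_fromSpec h hV hU hUV
  let j : pullback (Spec.map (CommRingCat.ofHom (algebraMap Γ(S, V) Γ(Y, U))))
      (Spec.map (CommRingCat.ofHom (algebraMap Γ(S, V) K))) ⟶ pullback h τ :=
    pullback.map _ _ _ _ hU.fromSpec (𝟙 _) hV.fromSpec eU (by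
      rw [Category.id_comp]; exact hφ)
  have hjrange : z ∈ Set.range j := by
    rw [Scheme.Pullback.range_map]
    erw [hU.range_fromSpec]
    exact ⟨hzU, pullback.snd h τ z, rfl⟩
  obtain ⟨w, hw⟩ := hjrange
  have hz : ((pullbackSpecIso Γ(S, V) Γ(Y, U) K).inv ≫ j) ((pullbackSpecIso Γ(S, V) Γ(Y, U) K).hom w) = z := by
    rw [← Scheme.Hom.comp_apply, Iso.hom_inv_id_assoc, hw]
  rw [← hz]
  exact NormalProd12.normal_at_of_openImm hN _ _

end Groth.Agent.Spread4
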