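import Mathlib
import Groth.Agent.Lib.ChartLift16.Base
import Groth.Agent.Lib.UnivHomeo.Basic

/-! Spreading out a finite separable or purely inseparable extension of the residue field of the generic point. -/

universe u

set_option linter.style.haveILetI false
set_option linter.style.longLine false

open Polynomial AlgebraicGeometry CategoryTheory

namespace Groth.Agent.Spread4

/-- Common denominators. -/
theorem exists_common_den {A K : Type u} [CommRing A] [Field K] (φ : A →+* K)
    (hfr : ∀ x : K, ∃ a s : A, φ s ≠ 0 ∧ x = φ a / φ s) (T : Finset K) :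
    ∃ s : A, φ s ≠ 0 ∧ ∀ x ∈ T, ∃ a : A, φ s * x = φ a := by
  classical
  induction T using Finset.induction_on with
  | empty => exact ⟨1, by simp, by simp⟩
  | insert x T hx ih =>
    obtain ⟨s, hs, h⟩ := ih
    obtain ⟨a, t, ht, rfl⟩ := hfr x
    refine ⟨s * t, by simp [hs, ht], fun y hy => ?_⟩
    rcases Finset.mem_insert.1 hy with rfl | hy
    · exact ⟨s * a, by simp only [map_mul]; field_simp⟩
    · obtain ⟨b, hb⟩ := h y hy
      exact ⟨t * b, by rw [map_mul, map_mul, mul_assoc, mul_comm (φ t), ← mul_assoc, hb, mul_comm]⟩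

/-- A finite separable extension spreads out to a finite etale algebra over a principal open. -/
theorem exists_finite_etale {A K L : Type u} [CommRing A] [Field K] [Field L] [Algebra K L]
    [FiniteDimensional K L] [Algebra.IsSeparable K L] (φ : A →+* K)
    (hker : RingHom.ker φ ≤ nilradical A)
    (hfr : ∀ x : K, ∃ a s : A, φ s ≠ 0 ∧ x = φ a / φ s) :
    ∃ (c : A) (B : Type u) (_ : CommRing B) (_ : Algebra (Localization.Away c) B) (χ : B →+* L),
      φ c ≠ 0 ∧ Module.Finite (Localization.Away c) B ∧ Algebra.Etale (Localization.Away c) B ∧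
      χ.comp ((algebraMap (Localization.Away c) B).comp (algebraMap A (Localization.Away c))) =
        (algebraMap K L).comp φ ∧
      Function.Surjective (PrimeSpectrum.comap (algebraMap (Localization.Away c) B)) ∧
      RingHom.ker χ ≤ nilradical B ∧ ∀ x : L, ∃ b d : B, χ d ≠ 0 ∧ x = χ b / χ d := by
  classical
  obtain ⟨α, hα⟩ := Field.exists_primitive_element K L
  have hint : IsIntegral K α := IsIntegral.of_finite K α
  let p := minpoly K α
  obtain ⟨u₀, v₀, huv⟩ := (Algebra.IsSeparable.isSeparable K α : p.Separable)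
  let T : Finset K := (Finset.range (p.natDegree + 1)).image p.coeff ∪
    (Finset.range (u₀.natDegree + 1)).image u₀.coeff ∪ (Finset.range (v₀.natDegree + 1)).image v₀.coeff
  obtain ⟨c, hc, hcT⟩ := exists_common_den φ hfr T
  let A' := Localization.Away c
  let ψ : A' →+* K := Localization.awayLift φ c (isUnit_iff_ne_zero.2 hc)
  have hψ : ∀ a, ψ (algebraMap A A' a) = φ a := fun a => IsLocalization.lift_eq _ a
  have hkerψ : ∀ z, ψ z = 0 → IsNilpotent z := by
    intro z hz
    obtain ⟨a, s, rfl⟩ := IsLocalization.exists_mk'_eq (Submonoid.powers c) z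
    have h1 := congrArg ψ (IsLocalization.mk'_spec A' a s)
    rw [map_mul, hz, zero_mul, hψ] at h1
    obtain ⟨n, hn⟩ := mem_nilradical.1 (hker (RingHom.mem_ker.2 h1.symm))
    refine ⟨n, ?_⟩
    rw [IsLocalization.mk'_eq_mul_mk'_one, mul_pow, ← map_pow, hn, map_zero, zero_mul]
  have hlift : ∀ q : K[X], (∀ i, q.coeff i ∈ T ∨ q.coeff i = 0) → q ∈ lifts ψ := by
    intro q hq
    rw [lifts_iff_coeff_lifts]
    intro i
    rcases hq i with h | h
    · obtain ⟨a, ha⟩ := hcT _ h
      refine ⟨IsLocalization.mk' A' a ⟨c, Submonoid.mem_powers c⟩, ?_⟩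
      have h1 := congrArg ψ (IsLocalization.mk'_spec A' a ⟨c, Submonoid.mem_powers c⟩)
      rw [map_mul, hψ, hψ, ← ha] at h1
      exact mul_right_cancel₀ hc (h1.trans (mul_comm _ _))
    · exact ⟨0, by rw [map_zero, h]⟩
  have hcoef : ∀ q : K[X], (Finset.range (q.natDegree + 1)).image q.coeff ⊆ T →
      ∀ i, q.coeff i ∈ T ∨ q.coeff i = 0 := fun q hq i => by
    by_cases hi : i ≤ q.natDegree
    · exact Or.inl (hq (Finset.mem_image_of_mem _ (Finset.mem_range.2 (by omega))))
    · exact Or.inr (coeff_eq_zero_of_natDegree_lt (by omega))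
  obtain ⟨P, hP, hdeg, hPm⟩ := lifts_and_degree_eq_and_monic
    (hlift p (hcoef p (fun x hx => Finset.mem_union_left _ (Finset.mem_union_left _ hx))))
    (minpoly.monic hint)
  obtain ⟨U, hU⟩ := (mem_lifts _).1
    (hlift u₀ (hcoef u₀ (fun x hx => Finset.mem_union_left _ (Finset.mem_union_right _ hx))))
  obtain ⟨V, hV⟩ := (mem_lifts _).1
    (hlift v₀ (hcoef v₀ (fun x hx => Finset.mem_union_right _ hx)))
  have hnil : ∀ q : A'[X], q.map ψ = 0 → IsNilpotent q := fun q hq =>
    Polynomial.isNilpotent_iff.2 fun i => hkerψ _ (by rw [← coeff_map, hq, coeff_zero])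
  have hE : IsNilpotent (U * P + V * derivative P - 1) := by
    refine hnil _ ?_
    rw [Polynomial.map_sub, Polynomial.map_add, Polynomial.map_mul, Polynomial.map_mul, ← derivative_map,
      hU, hV, hP, Polynomial.map_one, huv, sub_self]
  have hcop : IsCoprime P (derivative P) := by
    obtain ⟨w, hw⟩ := hE.isUnit_one_add
    rw [add_sub_cancel] at hw
    refine ⟨↑w⁻¹ * U, ↑w⁻¹ * V, ?_⟩
    rw [mul_assoc, mul_assoc, ← mul_add, ← hw, Units.inv_mul]
  haveI : Nontrivial A' := ψ.domain_nontrivial
  have hα0 : P.eval₂ ((algebraMap K L).comp ψ) α = 0 := by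
    rw [← eval₂_map, hP]
    exact minpoly.aeval K α
  let χ : AdjoinRoot P →+* L := AdjoinRoot.lift _ α hα0
  have hχmk : ∀ r : A'[X], χ (AdjoinRoot.mk P r) = aeval α (r.map ψ) := fun r => by
    rw [AdjoinRoot.lift_mk, aeval_def, eval₂_map]
  haveI : Module.Free A' (AdjoinRoot P) := hPm.free_adjoinRoot
  haveI : Module.Finite A' (AdjoinRoot P) := hPm.finite_adjoinRoot
  haveI : Nontrivial (AdjoinRoot P) := χ.domain_nontrivial
  refine ⟨c, AdjoinRoot P, inferInstance, inferInstance, χ, hc, inferInstance,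
    ChartLift16.etale_adjoinRoot hPm hcop, ?_, PrimeSpectrum.comap_surjective_of_faithfullyFlat, ?_, ?_⟩
  · refine RingHom.ext fun a => ?_
    rw [RingHom.comp_apply, RingHom.comp_apply, RingHom.comp_apply, AdjoinRoot.algebraMap_eq,
      AdjoinRoot.lift_of, RingHom.comp_apply, hψ]
  · intro b hb
    obtain ⟨r, rfl⟩ := AdjoinRoot.mk_surjective b
    rw [RingHom.mem_ker, ← AdjoinRoot.mk_leftInverse hPm (AdjoinRoot.mk P r), AdjoinRoot.modByMonicHom_mk,
      hχmk] at hb
    have h0 : (r %ₘ P).map ψ = 0 := by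
      by_contra hne
      refine absurd (minpoly.degree_le_of_ne_zero K α hne hb) (not_le.2 ?_)
      refine lt_of_le_of_lt degree_map_le ?_
      rw [← show P.degree = (minpoly K α).degree from hdeg]
      exact degree_modByMonic_lt r hPm
    rw [mem_nilradical, ← AdjoinRoot.mk_leftInverse hPm (AdjoinRoot.mk P r), AdjoinRoot.modByMonicHom_mk]
    exact (hnil _ h0).map _
  · intro x
    obtain ⟨q, rfl⟩ : ∃ q : K[X], aeval α q = x := by
      have hx : x ∈ (IntermediateField.adjoin K {α}).toSubalgebra := by rw [hα]; trivial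
      rw [IntermediateField.adjoin_simple_toSubalgebra_of_isAlgebraic hint.isAlgebraic,
        Algebra.adjoin_singleton_eq_range_aeval] at hx
      exact hx
    obtain ⟨s, hs, hsT⟩ := exists_common_den φ hfr ((Finset.range (q.natDegree + 1)).image q.coeff)
    have hq : C (φ s) * q ∈ lifts ψ := by
      rw [lifts_iff_coeff_lifts]
      intro i
      rw [coeff_C_mul]
      by_cases hi : i ≤ q.natDegree
      · obtain ⟨a, ha⟩ := hsT (q.coeff i) (Finset.mem_image_of_mem _ (Finset.mem_range.2 (Nat.lt_succ_of_le hi)))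
        exact ⟨algebraMap A A' a, by rw [hψ, ha]⟩
      · exact ⟨0, by rw [map_zero, coeff_eq_zero_of_natDegree_lt (by omega), mul_zero]⟩
    obtain ⟨r, hr⟩ := (mem_lifts _).1 hq
    have hd : χ (AdjoinRoot.mk P (C (algebraMap A A' s))) = algebraMap K L (φ s) := by
      rw [hχmk, map_C, aeval_C, hψ]
    refine ⟨AdjoinRoot.mk P r, AdjoinRoot.mk P (C (algebraMap A A' s)), ?_, ?_⟩
    · rw [hd]; exact (_root_.map_ne_zero _).2 hs
    · rw [hd, hχmk, hr, map_mul, aeval_C, mul_div_cancel_left₀ _ ((_root_.map_ne_zero (algebraMap K L)).2 hs)]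

/-- Finite purely inseparable extensions spread out to finite universal homeomorphisms. -/
theorem exists_finite_univHomeo {A K L : Type u} [CommRing A] [Field K] [Field L] [Algebra K L]
    [FiniteDimensional K L] [IsPurelyInseparable K L] (φ : A →+* K)
    (hker : RingHom.ker φ ≤ nilradical A)
    (hfr : ∀ x : K, ∃ a s : A, φ s ≠ 0 ∧ x = φ a / φ s) :
    ∃ (B : Type u) (_ : CommRing B) (_ : IsDomain B) (_ : Algebra A B) (χ : B →+* L),
      Module.Finite A B ∧ FlatMor.IsUnivHomeo (Spec.map (CommRingCat.ofHom (algebraMap A B))) ∧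
      χ.comp (algebraMap A B) = (algebraMap K L).comp φ ∧
      Function.Injective χ ∧ ∀ x : L, ∃ b d : B, χ d ≠ 0 ∧ x = χ b / χ d := by
  classical
  obtain ⟨p, hp⟩ := ExpChar.exists K
  haveI := hp
  haveI : ExpChar L p := expChar_of_injective_ringHom (algebraMap K L).injective p
  let bas := Module.finBasis K L
  choose e he using fun i => IsPurelyInseparable.pow_mem K p (bas i)
  let m := Finset.univ.sup e
  have hq : ∀ i, ∃ x : K, algebraMap K L x = bas i ^ p ^ m := fun i => by
    obtain ⟨x, hx⟩ := he i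
    refine ⟨x ^ p ^ (m - e i), ?_⟩
    rw [map_pow, hx, ← pow_mul, ← pow_add, Nat.add_sub_of_le (Finset.le_sup (Finset.mem_univ i))]
  choose x hx using hq
  have hqpos : 0 < p ^ m := Nat.pow_pos (expChar_pos K p)
  obtain ⟨s, hs, hsT⟩ := exists_common_den φ hfr (Finset.univ.image x)
  letI : Algebra A L := ((algebraMap K L).comp φ).toAlgebra
  let g : Fin (Module.finrank K L) → L := fun i => algebraMap A L s * bas i
  have hg : ∀ i, g i ^ p ^ m ∈ (algebraMap A L).range := fun i => by
    obtain ⟨a, ha⟩ := hsT _ (Finset.mem_image_of_mem x (Finset.mem_univ i))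
    refine ⟨s ^ (p ^ m - 1) * a, ?_⟩
    rw [mul_pow, ← hx i]
    show algebraMap K L (φ (s ^ (p ^ m - 1) * a)) = algebraMap K L (φ s) ^ p ^ m * algebraMap K L (x i)
    rw [← map_pow, ← map_mul]
    congr 1
    rw [map_mul, ← ha, map_pow, ← mul_assoc, ← pow_succ, Nat.sub_add_cancel hqpos]
  let B := Algebra.adjoin A (Set.range g)
  have hpow : ∀ b ∈ B, b ^ p ^ m ∈ (algebraMap A L).range := fun b hb => by
    induction hb using Algebra.adjoin_induction with
    | mem y hy => obtain ⟨i, rfl⟩ := hy; exact hg i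
    | algebraMap r => exact ⟨r ^ p ^ m, map_pow _ _ _⟩
    | add y z _ _ hy hz => rw [add_pow_expChar_pow]; exact add_mem hy hz
    | mul y z _ _ hy hz => rw [mul_pow]; exact mul_mem hy hz
  have hfin : Module.Finite A B := Module.Finite.iff_fg.2
    (fg_adjoin_of_finite (Set.finite_range g) fun b hb => by
      obtain ⟨i, rfl⟩ := hb
      obtain ⟨a, ha⟩ := hg i
      exact IsIntegral.of_pow hqpos (ha ▸ isIntegral_algebraMap))
  have hpw : ∀ b : B, ∃ n > 0, b ^ n ∈ (algebraMap A B).range := fun b => by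
    obtain ⟨a, ha⟩ := hpow b.1 b.2
    exact ⟨p ^ m, hqpos, a, Subtype.ext ha⟩
  have hkerB : RingHom.ker (algebraMap A B) ≤ nilradical A := fun a ha => by
    have h1 : algebraMap K L (φ a) = 0 := congrArg Subtype.val (RingHom.mem_ker.1 ha)
    exact hker (RingHom.mem_ker.2 ((map_eq_zero _).1 h1))
  haveI := hfin
  have huh : FlatMor.IsUnivHomeo (Spec.map (CommRingCat.ofHom (algebraMap A B))) := by
    refine (UH.isUnivHomeo_iff _).2 ⟨Algebra.IsIntegral.isIntegral, UH.universallyInjective_of_field _ ?_,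
      ⟨(PrimeSpectrum.isHomeomorph_comap _ hpw hkerB).surjective⟩⟩
    intro F _ f f' h
    refine RingHom.ext fun b => ?_
    obtain ⟨a, ha⟩ := hpow b.1 b.2
    have hb : b ^ p ^ m = algebraMap A B a := Subtype.ext ha.symm
    have h1 : f b ^ p ^ m = f' b ^ p ^ m := by
      rw [← map_pow, ← map_pow, hb]; exact RingHom.congr_fun h a
    rcases expChar_is_prime_or_one K p with hpp | rfl
    · haveI := Fact.mk hpp
      haveI : CharP K p := by
        rcases hp with _ | _
        · exact absurd hpp Nat.not_prime_one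
        · assumption
      obtain ⟨n, hn⟩ := mem_nilradical.1 (hker (RingHom.mem_ker.2 (show φ (p : A) = 0 by
        rw [map_natCast, CharP.cast_eq_zero])))
      have h2 : ((p : F)) ^ n = 0 := by
        rw [← map_natCast (f.comp (algebraMap A B)), ← map_pow, hn, map_zero]
      haveI : CharP F p := CharP.ringChar_of_prime_eq_zero hpp (pow_eq_zero_iff'.1 h2).1 ▸ ringChar.charP F
      exact iterateFrobenius_inj F p m (by simpa [iterateFrobenius_def] using h1)
    · simpa using h1
  refine ⟨B, inferInstance, inferInstance, inferInstance, B.val.toRingHom, hfin, huh, rfl,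
    Subtype.val_injective, fun y => ?_⟩
  obtain ⟨t, ht, htT⟩ := exists_common_den φ hfr (Finset.univ.image fun i => bas.repr y i)
  choose a ha using fun i => htT _ (Finset.mem_image_of_mem (fun i => bas.repr y i) (Finset.mem_univ i))
  refine ⟨⟨∑ i, algebraMap A L (a i) * g i, sum_mem fun i _ =>
    mul_mem (B.algebraMap_mem _) (Algebra.subset_adjoin (Set.mem_range_self i))⟩,
    algebraMap A B (t * s), ?_, ?_⟩
  · exact (map_ne_zero (algebraMap K L)).2 (by rw [map_mul]; exact mul_ne_zero ht hs)
  · rw [eq_div_iff]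
    · show y * algebraMap K L (φ (t * s)) = ∑ i, algebraMap K L (φ (a i)) * (algebraMap K L (φ s) * bas i)
      conv_lhs => rw [← bas.sum_repr y, Finset.sum_mul]
      refine Finset.sum_congr rfl fun i _ => ?_
      rw [← ha, Algebra.smul_def]
      simp only [map_mul]
      ring
    · exact (map_ne_zero (algebraMap K L)).2 (by rw [map_mul]; exact mul_ne_zero ht hs)

end Groth.Agent.Spread4
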